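import Cfsg.Agent.StdL3.OneGrow
import Cfsg.Agent.StdRank2.L3G.Core
import Cfsg.Agent.ONType.OuterL

/-!
# Type `L₃(4)`: the grown group in the form `L3G.Core`

`core : Setup A t → Core (base S) Y1 Y2 Y3`, for `A : Dat L`, `L ≅ L₃(4)` in a group `X` (no cores), by the growth
argument of `StdL3/One*`; and the transport along a field isomorphism.
-/

set_option autoImplicit false
set_option linter.unusedSectionVars false
set_option linter.constructorNameAsVariable false

namespace Cfsg.Agent.StdRank2.L3Four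

open Cfsg.Agent.LThreeFour
open Cfsg.Agent.SporadicA.FieldFour
open Cfsg.Agent.StdL3.OneRoot
open Cfsg.Agent.StdL3.OneY
open Cfsg.Agent.StdL3.OneGrow
open Cfsg.Agent.StdRank2.L3G

variable {X : Type*} [Group X] {L : Subgroup X} {A : Dat L} {t : X}

/-- The root groups and `t`. -/
@[simps]
def base (S : Setup A t) : Base F4 X where
  xa := r A 0 1
  xb := r A 1 2
  xc := r A 0 2
  t := t
  xa_add x y := (r_add A (by decide) x y).symm
  xb_add x y := (r_add A (by decide) x y).symm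
  xc_add x y := (r_add A (by decide) x y).symm
  c_a x y := r_row A (by decide) (by decide) x y
  c_b x y := r_col A (by decide) (by decide) x y
  a_b x y := by
    rw [r_sum A (i := 0) (j := 2) (k := 1) (by decide) (by decide) (by decide) x y]
    have h1 := r_row A (i := 0) (j := 1) (k := 2) (by decide) (by decide) x (x * y)
    have h2 := r_col A (i := 1) (j := 2) (k := 0) (by decide) (by decide) y (x * y)
    rw [mul_assoc, h1, ← mul_assoc, h2, mul_assoc]
  u_inj x y z h := by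
    have h1 : E A ⟨x, y, z⟩ = 1 := by rw [E_eq]; exact h
    exact E_zero h1
  t_sq := S.tt
  t_a x := S.tL _ (r_mem A _ _ _)
  t_b x := S.tL _ (r_mem A _ _ _)
  t_c x := S.tL _ (r_mem A _ _ _)
  t_not x y z h := S.tn (by
    rw [h]; exact L.mul_mem (L.mul_mem (r_mem A _ _ _) (r_mem A _ _ _)) (r_mem A _ _ _))

/-- from the convention `t y = y (t x)` of `RG` to the convention `y t y⁻¹ = x t`. -/
theorem conj_of_mv {y x : X} (hy : y * y = 1) (hx : t * x = x * t) (h : t * y = y * (t * x)) :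
    y * t * y⁻¹ = x * t := by
  have h1 : y⁻¹ = y := inv_eq_of_mul_eq_one_right hy
  rw [h1, mul_assoc, h, ← mul_assoc, hy, one_mul, hx]

/-- **The grown groups for `q = 4`.** -/
theorem core (S : Setup A t) : Core (base S) S.Y1 S.Y2 S.Y3 where
  memA := S.rg1.le
  memB := S.rg2.le
  memZ := S.rg3.le
  A_sq := S.three.sq1
  B_sq := S.three.sq2
  Z_sq := S.three.sq3
  Z_A z hz y hy := (S.three.c13 y hy z hz).symm
  Z_B z hz y hy := (S.three.c23 y hy z hz).symm
  A_B y hy y' hy' := by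
    obtain ⟨z, hz, e⟩ := S.three.comm12 hy hy'
    -- `y' y = y y' z`
    have e1 : y * y' * y⁻¹ * y'⁻¹ = y * y' * (z⁻¹ * (y * y')⁻¹) := by
      rw [← mul_inv_rev, ← e, mul_inv_rev, mul_assoc (y * y')]
    have e2 : (y * y') * z⁻¹ = z⁻¹ * (y * y') := by
      rw [mul_assoc, S.three.c23 y' hy' _ (S.Y3.inv_mem hz), ← mul_assoc,
        S.three.c13 y hy _ (S.Y3.inv_mem hz), mul_assoc]
    rw [e1, ← mul_assoc, e2, mul_inv_cancel_right]
    exact S.Y3.inv_mem hz
  conjA y hy := by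
    obtain ⟨u, hu⟩ := S.rg1.mv y hy
    exact ⟨u, conj_of_mv (S.three.sq1 y hy) (S.tL _ (r_mem A _ _ _)) hu⟩
  conjB y hy := by
    obtain ⟨u, hu⟩ := S.rg2.mv y hy
    exact ⟨u, conj_of_mv (S.three.sq2 y hy) (S.tL _ (r_mem A _ _ _)) hu⟩
  conjZ y hy := by
    obtain ⟨u, hu⟩ := S.rg3.mv y hy
    exact ⟨u, conj_of_mv (S.three.sq3 y hy) (S.tL _ (r_mem A _ _ _)) hu⟩
  ontoA u := by
    obtain ⟨y, hy, hu⟩ := S.rg1.surj u
    exact ⟨y, hy, conj_of_mv (S.three.sq1 y hy) (S.tL _ (r_mem A _ _ _)) hu⟩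
  ontoB u := by
    obtain ⟨y, hy, hu⟩ := S.rg2.surj u
    exact ⟨y, hy, conj_of_mv (S.three.sq2 y hy) (S.tL _ (r_mem A _ _ _)) hu⟩
  ontoZ u := by
    obtain ⟨y, hy, hu⟩ := S.rg3.surj u
    exact ⟨y, hy, conj_of_mv (S.three.sq3 y hy) (S.tL _ (r_mem A _ _ _)) hu⟩
  centA y hy h := S.rg1.fix y hy h.symm
  centB y hy h := S.rg2.fix y hy h.symm
  centZ y hy h := S.rg3.fix y hy h.symm

/-! ### transport along a field isomorphism -/

variable {F K : Type*} [Field F] [CharP F 2] [Field K] [CharP K 2]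

/-- Reparametrisation. -/
@[simps]
def _root_.Cfsg.Agent.StdRank2.L3G.Base.comap (E : Base F X) (f : K ≃+* F) : Base K X where
  xa x := E.xa (f x)
  xb x := E.xb (f x)
  xc x := E.xc (f x)
  t := E.t
  xa_add x y := by rw [map_add, E.xa_add]
  xb_add x y := by rw [map_add, E.xb_add]
  xc_add x y := by rw [map_add, E.xc_add]
  c_a x y := E.c_a _ _
  c_b x y := E.c_b _ _
  a_b x y := by rw [E.a_b, map_mul]
  u_inj x y z h := by
    obtain ⟨h1, h2, h3⟩ := E.u_inj _ _ _ h
    simpa using And.intro h1 (And.intro h2 h3)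
  t_sq := E.t_sq
  t_a x := E.t_a _
  t_b x := E.t_b _
  t_c x := E.t_c _
  t_not x y z := E.t_not _ _ _

theorem _root_.Cfsg.Agent.StdRank2.L3G.Core.comap {E : Base F X} {P Q R : Subgroup X} (C : Core E P Q R)
    (f : K ≃+* F) : Core (E.comap f) P Q R where
  memA c := C.memA _
  memB c := C.memB _
  memZ c := C.memZ _
  A_sq := C.A_sq
  B_sq := C.B_sq
  Z_sq := C.Z_sq
  Z_A := C.Z_A
  Z_B := C.Z_B
  A_B := C.A_B
  conjA g hg := by
    obtain ⟨c, hc⟩ := C.conjA g hg
    exact ⟨f.symm c, by rw [Base.comap_xa, f.apply_symm_apply]; exact hc⟩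
  conjB g hg := by
    obtain ⟨c, hc⟩ := C.conjB g hg
    exact ⟨f.symm c, by rw [Base.comap_xb, f.apply_symm_apply]; exact hc⟩
  conjZ g hg := by
    obtain ⟨c, hc⟩ := C.conjZ g hg
    exact ⟨f.symm c, by rw [Base.comap_xc, f.apply_symm_apply]; exact hc⟩
  ontoA c := C.ontoA _
  ontoB c := C.ontoB _
  ontoZ c := C.ontoZ _
  centA g hg h := by
    obtain ⟨c, hc⟩ := C.centA g hg h
    exact ⟨f.symm c, by rw [Base.comap_xa, f.apply_symm_apply]; exact hc⟩
  centB g hg h := by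
    obtain ⟨c, hc⟩ := C.centB g hg h
    exact ⟨f.symm c, by rw [Base.comap_xb, f.apply_symm_apply]; exact hc⟩
  centZ g hg h := by
    obtain ⟨c, hc⟩ := C.centZ g hg h
    exact ⟨f.symm c, by rw [Base.comap_xc, f.apply_symm_apply]; exact hc⟩

end Cfsg.Agent.StdRank2.L3Four
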