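import Cfsg.Agent.StdL3.OneGrown
import Cfsg.Agent.StdRank2.L3Four.Core
import Cfsg.Agent.StdRank2.L3G.HeisEquiv
import Cfsg.Agent.StdL3.OuterMat
import Mathlib.FieldTheory.Finite.GaloisField

/-!
# Type `L₃(4)`: coordinates on the grown group, in the form `L3G.Coord`
-/

set_option autoImplicit false
set_option linter.unusedSectionVars false
set_option linter.constructorNameAsVariable false

namespace Cfsg.Agent.StdRank2.L3Four

open Cfsg.Agent.LThreeFour
open Cfsg.Agent.SporadicA.FieldFour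
open Cfsg.Agent.StdL3.OneRoot
open Cfsg.Agent.StdL3.OneY
open Cfsg.Agent.StdL3.OneGrow
open Cfsg.Agent.StdL3.HeisCoord (zz)
open Cfsg.Agent.StdRank2.L3G

variable {X : Type*} [Group X] {L : Subgroup X} {A : Dat L} {t : X}

theorem zz_eq_cm {x y : X} (hx : x * x = 1) (hy : y * y = 1) : zz x y = cm x y := by
  unfold zz cm
  rw [inv_of_sq hx, inv_of_sq hy]

/-- **Coordinates for `q = 4`.** -/
theorem exists_coord (S : Setup A t) : Nonempty (Coord (base S) S.Y1 S.Y2 S.Y3) := by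
  obtain ⟨ν, p, q, r', pm, qm, rm, pa, qa, ra, pT, qT, rT, h1, h2, h3⟩ := S.grown.exists_coords
  have C := core S
  have conv : ∀ {y : X} {i j : Fin 3} {u : F4}, y * y = 1 →
      Setup.TC t y = y * r A i j u →
      y * t * y⁻¹ = r A i j u * t := by
    intro y i j u hy h
    have hx := S.tL _ (r_mem A i j u)
    refine conj_of_mv hy hx ?_
    rw [Setup.TC_apply] at h
    calc t * y = (t * y * t⁻¹) * t := by group
      _ = _ := by rw [h, mul_assoc, ← hx]
  exact ⟨{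
    pa := p
    pb := q
    pc := r'
    g := ν
    pa_mem := pm
    pb_mem := qm
    pc_mem := rm
    pa_add := pa
    pb_add := qa
    pc_add := ra
    pa_t := fun s => conv (C.A_sq _ (pm s)) (pT s)
    pb_t := fun s => conv (C.B_sq _ (qm s)) (qT s)
    pc_t := fun s => conv (C.Z_sq _ (rm s)) (rT s)
    pa_xb := fun s u => by
      rw [← zz_eq_cm (C.A_sq _ (pm s)) (C.B_sq _ (C.memB u))]
      exact h1 s u
    xa_pb := fun s u => by
      rw [← zz_eq_cm (C.A_sq _ (C.memA s)) (C.B_sq _ (qm u))]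
      exact h2 s u
    pa_pb := fun s u => by
      rw [← zz_eq_cm (C.A_sq _ (pm s)) (C.B_sq _ (qm u))]
      exact h3 s u }⟩

variable {F K : Type*} [Field F] [CharP F 2] [Field K] [CharP K 2]

/-- Reparametrisation of coordinates. -/
@[simps]
def _root_.Cfsg.Agent.StdRank2.L3G.Coord.comap {E : Base F X} {P Q R : Subgroup X}
    (C : Coord E P Q R) (f : K ≃+* F) : Coord (E.comap f) P Q R where
  pa x := C.pa (f x)
  pb x := C.pb (f x)
  pc x := C.pc (f x)
  g := f.symm C.g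
  pa_mem _ := C.pa_mem _
  pb_mem _ := C.pb_mem _
  pc_mem _ := C.pc_mem _
  pa_add s r := by rw [map_add, C.pa_add]
  pb_add s r := by rw [map_add, C.pb_add]
  pc_add s r := by rw [map_add, C.pc_add]
  pa_t s := C.pa_t _
  pb_t s := C.pb_t _
  pc_t s := C.pc_t _
  pa_xb s r := by rw [map_mul]; exact C.pa_xb _ _
  xa_pb s r := by rw [map_mul]; exact C.xa_pb _ _
  pa_pb s r := by
    rw [Base.comap_xc, map_mul, map_mul, map_mul, f.apply_symm_apply]; exact C.pa_pb _ _

/-- Coordinates over any field with four elements. -/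
theorem exists_coord_of (S : Setup A t) (f : K ≃+* F4) :
    Nonempty (Coord ((base S).comap f) S.Y1 S.Y2 S.Y3) := by
  obtain ⟨C⟩ := exists_coord S
  exact ⟨C.comap f⟩

theorem core_of (S : Setup A t) (f : K ≃+* F4) : Core ((base S).comap f) S.Y1 S.Y2 S.Y3 :=
  (core S).comap f

/-! ### the version for an arbitrary base and a torus element of order 3 -/

/-- Conjugation. -/
def cjH (k : X) : X →* X := (MulAut.conj k).toMonoidHom

theorem cjH_apply (k x : X) : cjH k x = k * x * k⁻¹ := rfl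

section Torus

variable {E : Base F4 X} {P Q R : Subgroup X}

theorem fix_eq_one {x : F4 → X} {Y : Subgroup X} {k s : X} (hks : s * k = k * s)
    (hxi : ∀ a b, x a = x b → a = b) (x0 : x 0 = 1) {m : F4} (hm : m ≠ 1)
    (hk : ∀ a, k * x a * k⁻¹ = x (m * a))
    (conj : ∀ g ∈ Y, ∃ c, g * s * g⁻¹ = x c * s) (cent : ∀ g ∈ Y, g * s = s * g → ∃ c, g = x c)
    {y : X} (hy : y ∈ Y) (h : k * y * k⁻¹ = y) : y = 1 := by
  have key : ∀ c : F4, x (m * c) = x c → c = 0 := by
    intro c hc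
    have h1 := hxi _ _ hc
    have h2 : (m - 1) * c = 0 := by rw [sub_mul, h1, one_mul, sub_self]
    rcases mul_eq_zero.1 h2 with h3 | h3
    · exact absurd (sub_eq_zero.1 h3) hm
    · exact h3
  obtain ⟨c, hc⟩ := conj y hy
  have hk2 : k * s * k⁻¹ = s := by rw [← hks, mul_inv_cancel_right]
  have h1 : x (m * c) * s = x c * s := by
    calc x (m * c) * s = (k * x c * k⁻¹) * (k * s * k⁻¹) := by rw [hk, hk2]
      _ = k * (x c * s) * k⁻¹ := by group
      _ = k * (y * s * y⁻¹) * k⁻¹ := by rw [hc]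
      _ = (k * y * k⁻¹) * (k * s * k⁻¹) * (k * y * k⁻¹)⁻¹ := by group
      _ = x c * s := by rw [h, hk2, hc]
  have hc0 := key c (mul_right_cancel h1)
  subst hc0
  rw [x0, one_mul] at hc
  obtain ⟨d, rfl⟩ := cent y hy (comm_of_conj hc)
  have h2 := key d (by rw [← hk, h])
  rw [h2, x0]

/-- The grown configuration in the sense of `StdL3.HeisCoord`. -/
theorem grown_of (C : Core E P Q R) {k : X} (h3 : k * k * k = 1) (ht : E.t * k = k * E.t)
    (hP : ∀ g ∈ P, k * g * k⁻¹ ∈ P) (hQ : ∀ g ∈ Q, k * g * k⁻¹ ∈ Q)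
    (hR : ∀ g ∈ R, k * g * k⁻¹ ∈ R)
    (ha : ∀ x, k * E.xa x * k⁻¹ = E.xa (F4.w * x)) (hb : ∀ x, k * E.xb x * k⁻¹ = E.xb (F4.w * x)) :
    Cfsg.Agent.StdL3.HeisCoord.Grown (cjH E.t) (cjH k) P Q R C.Sh E.xa E.xb E.xc := by
  have hc : ∀ x, k * E.xc x * k⁻¹ = E.xc (F4.v * x) := by
    intro x
    have h1 : E.xc (x * 1) = E.xa x * E.xb 1 * (E.xa x)⁻¹ * (E.xb 1)⁻¹ := by
      rw [E.a_b]; group
    have h2 : E.xc ((F4.w * x) * (F4.w * 1))
        = E.xa (F4.w * x) * E.xb (F4.w * 1) * (E.xa (F4.w * x))⁻¹ * (E.xb (F4.w * 1))⁻¹ := by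
      rw [E.a_b]; group
    rw [mul_one] at h1
    have h3 : F4.v * x = (F4.w * x) * (F4.w * 1) := by cases x <;> rfl
    rw [h3, h2, h1, ← ha, ← hb]
    group
  have c4 : Nat.card F4 = 4 := by rw [Nat.card_eq_fintype_card, F4.card_eq]
  have hT : ∀ {Y : Subgroup X} {x : F4 → X}, (∀ g ∈ Y, g * g = 1) → (∀ c, x c ∈ Y) →
      ∀ y ∈ Y, ∀ c, y * E.t * y⁻¹ = x c * E.t → cjH E.t y = y * x c := by
    intro Y x hs hx y hy c h
    exact Core.t_conj_of C (hs _ (hx c)) (Core.comm_of_sq' C hs (hx c) hy) h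
  exact {
    card1 := by rw [C.card_A, c4]; norm_num
    card2 := by rw [C.card_B, c4]; norm_num
    card3 := by rw [C.card_Z, c4]; norm_num
    cardU := by rw [C.card_Sh, c4]; norm_num
    sq1 := C.A_sq
    sq2 := C.B_sq
    sq3 := C.Z_sq
    le1 := C.A_le
    le2 := C.B_le
    le3 := C.Z_le
    gen := fun u hu => hu
    c13 := fun y hy z hz => (C.Z_A z hz y hy).symm
    c23 := fun y hy z hz => (C.Z_B z hz y hy).symm
    c12 := fun y hy y' hy' => by
      refine ⟨(cm y y'), C.cm_mem hy hy', ?_⟩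
      have h1 := C.Z_A _ (C.cm_mem hy hy') y hy
      have h2 := C.Z_B _ (C.cm_mem hy hy') y' hy'
      calc y * y' = cm y y' * (y' * y) := by unfold cm; group
        _ = (cm y y' * y') * y := by group
        _ = y' * (cm y y' * y) := by rw [h2]; group
        _ = _ := by rw [h1]; group
    TH := fun y => by
      have e : E.t * k⁻¹ = k⁻¹ * E.t := by
        rw [eq_inv_mul_iff_mul_eq, ← mul_assoc, ← ht, mul_inv_cancel_right]
      have e' : k⁻¹ * E.t⁻¹ = E.t⁻¹ * k⁻¹ := by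
        rw [← mul_inv_rev, ← mul_inv_rev, ht]
      simp only [cjH_apply]
      calc E.t * (k * y * k⁻¹) * E.t⁻¹ = (E.t * k) * y * (k⁻¹ * E.t⁻¹) := by group
        _ = (k * E.t) * y * (E.t⁻¹ * k⁻¹) := by rw [ht, e']
        _ = _ := by group
    HHH := fun y => by
      simp only [cjH_apply]
      have h3' : k⁻¹ * k⁻¹ * k⁻¹ = 1 := by
        calc k⁻¹ * k⁻¹ * k⁻¹ = (k * k * k)⁻¹ := by group
          _ = 1 := by rw [h3, inv_one]
      calc k * (k * (k * y * k⁻¹) * k⁻¹) * k⁻¹ = (k * k * k) * y * (k⁻¹ * k⁻¹ * k⁻¹) := by group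
        _ = y := by rw [h3, h3', one_mul, mul_one]
    T3 := fun y hy => by
      obtain ⟨c, hc⟩ := C.conjZ y hy
      rw [hT C.Z_sq C.memZ y hy c hc]
      exact R.mul_mem hy (C.memZ c)
    H1 := hP
    H2 := hQ
    H3 := hR
    fix1 := fun y hy h => fix_eq_one ht (fun _ _ => E.xa_inj) E.xa_zero
      (m := F4.w) (by decide) ha C.conjA C.centA hy h
    fix2 := fun y hy h => fix_eq_one ht (fun _ _ => E.xb_inj) E.xb_zero
      (m := F4.w) (by decide) hb C.conjB C.centB hy h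
    fix3 := fun y hy h => fix_eq_one ht (fun _ _ => E.xc_inj) E.xc_zero
      (m := F4.v) (by decide) hc C.conjZ C.centZ hy h
    m1 := C.memA
    m2 := C.memB
    m3 := C.memZ
    a1 := E.xa_add
    a2 := E.xb_add
    a3 := E.xc_add
    i1 := fun _ => E.xa_eq_one
    i2 := fun _ => E.xb_eq_one
    i3 := fun _ => E.xc_eq_one
    h1 := ha
    h2 := hb
    h3 := hc
    comm := fun a b => by
      rw [E.a_b, ← mul_assoc, E.c_b, mul_assoc, E.c_a, ← mul_assoc]
    t1 := fun a => by rw [cjH_apply, E.t_a, mul_inv_cancel_right]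
    t2 := fun a => by rw [cjH_apply, E.t_b, mul_inv_cancel_right]
    t3 := fun a => by rw [cjH_apply, E.t_c, mul_inv_cancel_right]
    lift1 := by
      obtain ⟨y, hy, h⟩ := C.ontoA 1
      exact ⟨y, hy, hT C.A_sq C.memA y hy 1 h⟩
    lift2 := by
      obtain ⟨y, hy, h⟩ := C.ontoB 1
      exact ⟨y, hy, hT C.B_sq C.memB y hy 1 h⟩
    tfix3 := fun y hy h => by
      refine C.centZ y hy ?_
      rw [cjH_apply] at h
      have : E.t * y = y * E.t := by
        calc E.t * y = (E.t * y * E.t⁻¹) * E.t := by group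
          _ = _ := by rw [h]
      exact this.symm }

theorem exists_coord_F4 (C : Core E P Q R) {k : X} (h3 : k * k * k = 1) (ht : E.t * k = k * E.t)
    (hP : ∀ g ∈ P, k * g * k⁻¹ ∈ P) (hQ : ∀ g ∈ Q, k * g * k⁻¹ ∈ Q)
    (hR : ∀ g ∈ R, k * g * k⁻¹ ∈ R)
    (ha : ∀ x, k * E.xa x * k⁻¹ = E.xa (F4.w * x)) (hb : ∀ x, k * E.xb x * k⁻¹ = E.xb (F4.w * x)) :
    Nonempty (Coord E P Q R) := by
  obtain ⟨ν, p, q, r', pm, qm, rm, pa, qa, ra, pT, qT, rT, h1, h2, h3⟩ :=
    (grown_of C h3 ht hP hQ hR ha hb).exists_coords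
  have conv : ∀ {y z : X}, y * y = 1 → E.t * z = z * E.t → cjH E.t y = y * z →
      y * E.t * y⁻¹ = z * E.t := by
    intro y z hy hx h
    refine conj_of_mv hy hx ?_
    rw [cjH_apply] at h
    calc E.t * y = (E.t * y * E.t⁻¹) * E.t := by group
      _ = _ := by rw [h, mul_assoc, ← hx]
  exact ⟨{
    pa := p
    pb := q
    pc := r'
    g := ν
    pa_mem := pm
    pb_mem := qm
    pc_mem := rm
    pa_add := pa
    pb_add := qa
    pc_add := ra
    pa_t := fun s => conv (C.A_sq _ (pm s)) (E.t_a _) (pT s)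
    pb_t := fun s => conv (C.B_sq _ (qm s)) (E.t_b _) (qT s)
    pc_t := fun s => conv (C.Z_sq _ (rm s)) (E.t_c _) (rT s)
    pa_xb := fun s u => by
      rw [← zz_eq_cm (C.A_sq _ (pm s)) (C.B_sq _ (C.memB u))]
      exact h1 s u
    xa_pb := fun s u => by
      rw [← zz_eq_cm (C.A_sq _ (C.memA s)) (C.B_sq _ (qm u))]
      exact h2 s u
    pa_pb := fun s u => by
      rw [← zz_eq_cm (C.A_sq _ (pm s)) (C.B_sq _ (qm u))]
      exact h3 s u }⟩

end Torus

theorem comap_comap_symm {E : Base F X} (f : K ≃+* F) : (E.comap f).comap f.symm = E := by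
  cases E
  simp [Base.comap]

theorem exists_F4_iso (hF : Nat.card F = 4) {w : F} (hw0 : w ≠ 0) (hw1 : w ≠ 1) :
    ∃ f : F4 ≃+* F, f F4.w = w := by
  have : Finite F := Nat.finite_of_card_ne_zero (by rw [hF]; norm_num)
  have : Fintype F := Fintype.ofFinite F
  let f0 : F4 ≃+* F := FiniteField.ringEquivOfCardEq (by
    rw [F4.card_eq, ← Nat.card_eq_fintype_card, hF])
  obtain ⟨u, hu⟩ := f0.surjective w
  have h1 : u ≠ 0 := by rintro rfl; exact hw0 (by rw [← hu, map_zero])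
  have h2 : u ≠ 1 := by rintro rfl; exact hw1 (by rw [← hu, map_one])
  by_cases h : u = F4.w
  · exact ⟨f0, by rw [← h, hu]⟩
  · have h3 : u = F4.v := by
      cases u
      · exact absurd rfl h1
      · exact absurd rfl h2
      · exact absurd rfl h
      · rfl
    refine ⟨Cfsg.Agent.StdL3.OuterMat.phi.trans f0, ?_⟩
    have : Cfsg.Agent.StdL3.OuterMat.phi F4.w = F4.v := rfl
    rw [RingEquiv.trans_apply, this, ← h3, hu]

/-- **Coordinates for `q = 4`**, general base `E`, torus element `k` of order 3. -/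
theorem exists_coord_torus (hF : Nat.card F = 4) {E : Base F X} {P Q R : Subgroup X}
    (C : Core E P Q R) {k : X} (h3 : k * k * k = 1) (ht : E.t * k = k * E.t)
    (hP : ∀ g ∈ P, k * g * k⁻¹ ∈ P) (hQ : ∀ g ∈ Q, k * g * k⁻¹ ∈ Q)
    (hR : ∀ g ∈ R, k * g * k⁻¹ ∈ R) {w : F} (hw0 : w ≠ 0) (hw1 : w ≠ 1)
    (ha : ∀ x, k * E.xa x * k⁻¹ = E.xa (w * x)) (hb : ∀ x, k * E.xb x * k⁻¹ = E.xb (w * x)) :
    Nonempty (Coord E P Q R) := by
  obtain ⟨f, hf⟩ := exists_F4_iso hF hw0 hw1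
  obtain ⟨D⟩ := exists_coord_F4 (C.comap f) h3 ht hP hQ hR
    (fun x => by
      change k * E.xa (f x) * k⁻¹ = E.xa (f (F4.w * x))
      rw [ha, map_mul, hf])
    (fun x => by
      change k * E.xb (f x) * k⁻¹ = E.xb (f (F4.w * x))
      rw [hb, map_mul, hf])
  have h := comap_comap_symm (E := E) f
  exact h ▸ ⟨D.comap f.symm⟩

end Cfsg.Agent.StdRank2.L3Four
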