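import Cfsg.Agent.StdRank2.L3Four.Inst
import Cfsg.Agent.StdRank2.L3Four.Coord
import Cfsg.Agent.StdRank2.L3Roots

/-!
# Type `L₃(q)`, all `q ≥ 4` even: the input of the root system in `X`

`exists_input_all : XSit A t fr → L3Zh.Seed h.env → ∃ Ag Bg, Nonempty (L3Roots.Input h Ag Bg S.Zh)`.
-/

set_option autoImplicit false
set_option linter.unusedSectionVars false
set_option linter.constructorNameAsVariable false
set_option linter.dupNamespace false

namespace Cfsg.Agent.StdRank2.L3Four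

open Subgroup
open Cfsg.Agent.LThreeFour
open Cfsg.Agent.SporadicA.FieldFour
open Cfsg.Agent.StdL3.OneRoot
open Cfsg.Agent.StdRank2.L3G
open Cfsg.Agent.StdRank2.FrameL3

variable {X : Type*} [Group X] [Finite X] {A : Subgroup X} {t : X}
  {F : Type*} [Field F] [Finite F] [CharP F 2] {fr : FrameL3 A F}

/-- **Coordinates in `X` (`q = 4`).** -/
theorem exists_coord_X {h : L3X.XSit A t fr} (hF : Nat.card F = 4) (S : L3Zh.Seed h.env) :
    Nonempty (Coord (baseX h) (Ag S) (Bg S) S.Zh) := by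
  obtain ⟨κ⟩ := exists_kap (F := F) hF
  have hk := (isTor_hh h κ).inv
  have hkT : (hh (dat h κ))⁻¹ ∈ L3X.torus fr := ⟨_, hk⟩
  have hw0 : κ F4.w ≠ 0 := by rw [Ne, map_eq_zero_iff κ κ.injective]; decide
  have hw1 : κ F4.w ≠ 1 := by
    rw [Ne, ← map_one κ, κ.injective.eq_iff]; decide
  refine exists_coord_torus hF (core_X hF S) (k := (hh (dat h κ))⁻¹) ?_ ?_
    (fun g hg => torus_Ag S hkT hg) (fun g hg => torus_Bg S hkT hg) (fun g hg => torus_Zh S hkT hg)
    hw0 hw1 ?_ ?_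
  · rw [← mul_inv_rev, ← mul_inv_rev, ← mul_assoc, hh_cube, inv_one]
  · exact h.tA _ (inv_mem (hh_mem _))
  · intro x
    show (hh (dat h κ))⁻¹ * fr.x 0 1 x * (hh (dat h κ))⁻¹⁻¹ = fr.x 0 1 (κ F4.w * x)
    rw [hk.2.2 0 1 (by decide)]
    congr 1
    simp
    ring
  · intro x
    show (hh (dat h κ))⁻¹ * fr.x 1 2 x * (hh (dat h κ))⁻¹⁻¹ = fr.x 1 2 (κ F4.w * x)
    rw [hk.2.2 1 2 (by decide)]
    congr 1
    have h1 : κ F4.v = κ F4.w * κ F4.w := by rw [← map_mul]; rfl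
    show (κ F4.w)⁻¹ * x * (κ F4.v)⁻¹⁻¹ = κ F4.w * x
    rw [h1, inv_inv]
    field_simp

/-- **The input in `X` (`q = 4`).** -/
theorem exists_input_four (h : L3X.XSit A t fr) (hF : Nat.card F = 4) (S : L3Zh.Seed h.env) :
    Nonempty (L3Roots.Input h (Ag S) (Bg S) S.Zh) := by
  obtain ⟨K⟩ := exists_coord_X hF S
  exact ⟨⟨core_X hF S, K, weylA_X S, weylB_X S⟩⟩

/-- `q = 4` or `q ≥ 8`. -/
theorem four_or_eight (h : L3X.XSit A t fr) : Nat.card F = 4 ∨ 8 ≤ Nat.card F := by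
  have : Fintype F := Fintype.ofFinite F
  obtain ⟨n, -, hn⟩ := FiniteField.card F 2
  have h4 := h.four
  rw [Nat.card_eq_fintype_card] at h4 ⊢
  rw [hn] at h4 ⊢
  have h1 : (n : ℕ) = 2 ∨ 3 ≤ (n : ℕ) := by
    by_contra hcon
    push Not at hcon
    have h2 : (n : ℕ) ≤ 1 := by omega
    have h3 := Nat.pow_le_pow_right (n := 2) (by norm_num) h2
    omega
  rcases h1 with h1 | h1
  · left; rw [h1]; norm_num
  · right
    have h3 := Nat.pow_le_pow_right (n := 2) (by norm_num) h1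
    omega

/-- **The input in `X`, all `q ≥ 4`.** -/
theorem exists_input_all (h : L3X.XSit A t fr) (S : L3Zh.Seed h.env) :
    ∃ Ag Bg : Subgroup X, Nonempty (L3Roots.Input h Ag Bg S.Zh) := by
  rcases four_or_eight h with hF | hF
  · exact ⟨_, _, exists_input_four h hF S⟩
  · obtain ⟨ν, hν0, hν1⟩ := h.exists_nu hF
    exact ⟨_, _, L3Roots.exists_input h hν0 hν1 ((h.seedG S hν0 hν1).grown
      (fr.w_mul_self (by decide) 1) (fr.w_mul_self (by decide) 1))⟩

end Cfsg.Agent.StdRank2.L3Four
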