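import Cfsg.Agent.StdRank2.L3Four.Core
import Cfsg.Agent.StdRank2.L3X
import Cfsg.Agent.StdRank2.L3Wey
import Cfsg.Agent.LThreeFour.Exists

/-!
# Type `L₃(4)`: the growth argument in the situation `L3X.XSit`

`exists_core : XSit A t fr → Nat.card F = 4 → (S : L3Zh.Seed h.env) → Core (baseX h) (Ag S) (Bg S) S.Zh`, with the
Weyl elements and the torus.
-/

set_option autoImplicit false
set_option linter.unusedSectionVars false
set_option linter.constructorNameAsVariable false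
set_option linter.dupNamespace false

namespace Cfsg.Agent.StdRank2.L3Four

open Subgroup
open Cfsg.Agent.LThreeFour
open Cfsg.Agent.SporadicA.FieldFour
open Cfsg.Agent.StdL3.OneRoot
open Cfsg.Agent.StdL3.OneY
open Cfsg.Agent.StdL3.OneGrow
open Cfsg.Agent.StdRank2.L3G
open Cfsg.Agent.StdRank2.FrameL3

variable {X : Type*} [Group X] [Finite X] {A : Subgroup X} {t : X}
  {F : Type*} [Field F] [Finite F] [CharP F 2] {fr : FrameL3 A F}

/-- The base of the frame. -/
@[simps]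
def baseX (h : L3X.XSit A t fr) : Base F X where
  xa := fr.x 0 1
  xb := fr.x 1 2
  xc := fr.x 0 2
  t := t
  xa_add x y := (fr.add h.hZ (by decide) x y).symm
  xb_add x y := (fr.add h.hZ (by decide) x y).symm
  xc_add x y := (fr.add h.hZ (by decide) x y).symm
  c_a x y := fr.comm h.hZ (by decide) (by decide) (by decide) (by decide) x y
  c_b x y := fr.comm h.hZ (by decide) (by decide) (by decide) (by decide) x y
  a_b x y := by
    rw [← h.el_a, ← h.el_b, ← h.el_z, fr.el_mul h.hZ, fr.el_mul h.hZ, fr.el_mul h.hZ]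
    congr 1
    · ring
    · ring
    · have : x * y + x * y = 0 := CharTwo.add_self_eq_zero _
      simp [this]
  u_inj x y z hh := by
    have h1 : fr.el x y z = fr.el 0 0 0 := by rw [fr.el_zero h.hZ]; exact hh
    exact fr.el_inj.1 h1
  t_sq := h.tt
  t_a x := h.tA _ (fr.mem (by decide) x)
  t_b x := h.tA _ (fr.mem (by decide) x)
  t_c x := h.tA _ (fr.mem (by decide) x)
  t_not x y z hh := h.t_not (hh ▸ h.el_mem x y z)

/-- `baseX` is the base of `envG`. -/
theorem envG_base (h : L3X.XSit A t fr) {ν : F} (hν0 : ν ≠ 0) (hν1 : ν ^ 3 ≠ 1) :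
    (h.envG hν0 hν1).base = baseX h := rfl

section

variable (h : L3X.XSit A t fr)
include h

theorem f_inj : Function.Injective fr.f := by
  rw [← MonoidHom.ker_eq_bot_iff, eq_bot_iff]
  intro a ha
  rw [fr.mem_ker_f] at ha
  rw [mem_bot]
  apply Subtype.ext
  exact h.Z a a.2 fun b hb => (congrArg Subtype.val (mem_center_iff.mp ha ⟨b, hb⟩)).symm

/-- `A ≃* PSL₃(F)`. -/
noncomputable def eA : ↥A ≃* Matrix.ProjectiveSpecialLinearGroup (Fin 3) F :=
  MulEquiv.ofBijective fr.f ⟨f_inj h, fr.f_surjective h.hZ⟩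

/-- the coordinates of `A`. -/
noncomputable def dat (κ : F4 ≃+* F) : Dat ↥A :=
  datPSL.map ((pslCongr κ).trans (eA h).symm)

theorem slCongr_T (κ : F4 ≃+* F) {i j : Fin 3} (hij : i ≠ j) (u : F4) :
    slCongr κ (Cfsg.Agent.ONType.Psl.T i j u) = Matrix.SpecialLinearGroup.transvection hij (κ u) := by
  apply Subtype.ext
  ext a b
  show κ (Cfsg.Agent.ONType.Psl.tm i j u a b) =
    (1 : Matrix (Fin 3) (Fin 3) F) a b + Matrix.single i j (κ u) a b
  unfold Cfsg.Agent.ONType.Psl.tm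
  rw [Matrix.one_apply, Matrix.single_apply]
  by_cases h1 : a = b
  · subst h1
    rw [if_pos rfl, if_pos rfl, if_neg (fun e => hij (e.1.trans e.2.symm)), map_one, add_zero]
  · rw [if_neg h1, if_neg h1, zero_add]
    by_cases h2 : a = i ∧ b = j
    · rw [if_pos h2, if_pos ⟨h2.1.symm, h2.2.symm⟩]
    · rw [if_neg h2, if_neg (fun e => h2 ⟨e.1.symm, e.2.symm⟩), map_zero]

theorem dat_x' (κ : F4 ≃+* F) {i j : Fin 3} (hij : i ≠ j) (u : F4) :
    (dat h κ).x i j u = ⟨fr.x i j (κ u), fr.mem hij _⟩ := by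
  show (eA h).symm (pslCongr κ (Cfsg.Agent.ONType.Psl.t i j u)) = _
  rw [MulEquiv.symm_apply_eq]
  show _ = fr.f (fr.X hij (κ u))
  rw [fr.f_X, ← slCongr_T h κ hij u]
  rfl

theorem r_dat (κ : F4 ≃+* F) {i j : Fin 3} (hij : i ≠ j) (u : F4) :
    r (dat h κ) i j u = fr.x i j (κ u) := congrArg Subtype.val (dat_x' h κ hij u)

theorem E_dat (κ : F4 ≃+* F) (a b c : F4) :
    E (dat h κ) ⟨a, b, c⟩ = fr.el (κ a) (κ b) (κ c) := by
  rw [E_eq, r_dat h κ (by decide), r_dat h κ (by decide), r_dat h κ (by decide)]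
  rfl

theorem z_dat (κ : F4 ≃+* F) (c : F4) : z (dat h κ) c = h.env.z (κ c) := by
  rw [z, E_dat, map_zero]
  rfl

theorem wey_dat (κ : F4 ≃+* F) {i j : Fin 3} (hij : i ≠ j) :
    ((wey (dat h κ) i j : ↥A) : X) = fr.w i j 1 := by
  have h1 : ((wey (dat h κ) i j : ↥A) : X) =
      r (dat h κ) i j 1 * r (dat h κ) j i 1 * r (dat h κ) i j 1 := rfl
  rw [h1, r_dat h κ hij, r_dat h κ hij.symm, map_one, FrameL3.w, inv_one]

/-- the input of the growth argument. -/
theorem setup (κ : F4 ≃+* F) (S : L3Zh.Seed h.env) : Setup (dat h κ) t where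
  tt := h.tt
  tL := h.tA
  tn := h.t_not
  cent := by
    intro x hx hxE
    have h1 : L3Zh.YY h.env x 0 := by
      refine ⟨fun a b c => ?_, ?_⟩
      · have h2 := hxE ⟨κ.symm a, κ.symm b, κ.symm c⟩
        rw [E_dat, κ.apply_symm_apply, κ.apply_symm_apply, κ.apply_symm_apply] at h2
        exact h2
      · rw [h.env.z_zero, mul_one]
        exact hx
    obtain ⟨c, hc⟩ := h1.ker
    refine ⟨κ.symm c, ?_⟩
    rw [z_dat, κ.apply_symm_apply]
    rcases hc with hc | hc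
    · exact Or.inl hc
    · right
      rw [hx, hc, ← mul_assoc]
      show t * t * h.env.z c = h.env.z c
      rw [h.tt, one_mul]
  w := by
    obtain ⟨y, -, hy⟩ := S.onto 1
    refine ⟨y⁻¹, 1, by decide, fun p => ?_, ?_⟩
    · obtain ⟨a, b, c⟩ := p
      rw [E_dat]
      exact hy.inv.el _ _ _
    · rw [inv_inv, z_dat, map_one]
      exact hy.t_conj
  centR := by
    intro x hx h0 h1
    obtain ⟨a, c, hc⟩ := h.cent_one hx
      (fun s => by
        have := h1 (κ.symm s)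
        rwa [r_dat h κ (by decide), κ.apply_symm_apply] at this)
      (fun s => by
        have := h0 (κ.symm s)
        rwa [r_dat h κ (by decide), κ.apply_symm_apply] at this)
    refine ⟨κ.symm c, κ.symm a, ?_⟩
    have e : fr.x 0 2 c * fr.x 0 1 a = fr.x 0 1 a * fr.x 0 2 c := (baseX h).c_a c a
    rw [r_dat h κ (by decide), r_dat h κ (by decide), κ.apply_symm_apply, κ.apply_symm_apply, e]
    rcases hc with hc | hc
    · exact Or.inl hc
    · right
      rw [hx, hc, ← mul_assoc, h.tt, one_mul]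
  centC := by
    intro x hx h0 h1
    obtain ⟨a, c, hc⟩ := h.cent_two hx
      (fun s => by
        have := h1 (κ.symm s)
        rwa [r_dat h κ (by decide), κ.apply_symm_apply] at this)
      (fun s => by
        have := h0 (κ.symm s)
        rwa [r_dat h κ (by decide), κ.apply_symm_apply] at this)
    refine ⟨κ.symm c, κ.symm a, ?_⟩
    have e : fr.x 0 2 c * fr.x 1 2 a = fr.x 1 2 a * fr.x 0 2 c := (baseX h).c_b c a
    rw [r_dat h κ (by decide), r_dat h κ (by decide), κ.apply_symm_apply, κ.apply_symm_apply, e]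
    rcases hc with hc | hc
    · exact Or.inl hc
    · right
      rw [hx, hc, ← mul_assoc, h.tt, one_mul]

/-- `hh` is a torus element. -/
theorem isTor_hh (κ : F4 ≃+* F) :
    L3X.IsTor fr (hh (dat h κ)) ![1, κ F4.w, κ F4.v] := by
  have hw : κ F4.w ≠ 0 := by rw [Ne, map_eq_zero_iff κ κ.injective]; decide
  have hv : κ F4.v ≠ 0 := by rw [Ne, map_eq_zero_iff κ κ.injective]; decide
  refine ⟨hh_mem _, ?_, ?_⟩
  · intro i
    fin_cases i
    · exact one_ne_zero
    · exact hw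
    · exact hv
  · intro i j hij s
    have key : ∀ i j : Fin 3, i ≠ j → ∀ s : F4, Cfsg.Agent.ONType.Psl.kap i j *
        ((![1, F4.w, F4.v] : Fin 3 → F4) i * s * ((![1, F4.w, F4.v] : Fin 3 → F4) j)⁻¹) = s := by
      decide
    have hc : ∀ i, (![1, κ F4.w, κ F4.v] : Fin 3 → F) i = κ ((![1, F4.w, F4.v] : Fin 3 → F4) i) := by
      intro i
      fin_cases i
      · exact (map_one κ).symm
      · rfl
      · rfl
    obtain ⟨u, rfl⟩ := κ.surjective s
    have h1 := congrArg Subtype.val ((dat h κ).h_x i j hij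
      ((![1, F4.w, F4.v] : Fin 3 → F4) i * u * ((![1, F4.w, F4.v] : Fin 3 → F4) j)⁻¹))
    rw [key i j hij] at h1
    have h2 : (hh (dat h κ))⁻¹ * r (dat h κ) i j ((![1, F4.w, F4.v] : Fin 3 → F4) i * u *
        ((![1, F4.w, F4.v] : Fin 3 → F4) j)⁻¹) * hh (dat h κ) = r (dat h κ) i j u := h1
    rw [r_dat h κ hij, r_dat h κ hij] at h2
    rw [hc, hc, ← map_mul, ← map_inv₀, ← map_mul, ← h2]
    group

/-- `Zh` is the group `Y₁₃`. -/
theorem Y3_eq (κ : F4 ≃+* F) (S : L3Zh.Seed h.env) : (setup h κ S).Y3 = S.Zh := by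
  set H := (setup h κ S).toInp with hH
  have hne := h.exists_ne
  have hle : S.Zh ≤ H.Y0 := by
    intro x hx
    obtain ⟨u, hu⟩ := S.yy x hx
    have hxY : x ∈ H.Y := by
      refine ⟨fun p => ?_, κ.symm u, ?_⟩
      · obtain ⟨a, b, c⟩ := p
        rw [E_dat]
        exact hu.el _ _ _
      · rw [z_dat, κ.apply_symm_apply]
        have h1 : x * t = t * x * h.env.z u := hu.t
        have h2 := hu.z u
        calc t * x = t * x * (h.env.z u * h.env.z u) := by rw [h.env.z_self, mul_one]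
          _ = x * t * h.env.z u := by rw [← mul_assoc, ← h1]
          _ = _ := by rw [mul_assoc]
    have hcj : ∀ y ∈ S.Zh, Inp.cj (dat h κ) y ∈ S.Zh := by
      intro y hy
      have h3 := (isTor_hh h κ).inv
      have h4 := S.conj_mem hne (h.nor_of_tor h3) hy
      rw [inv_inv] at h4
      exact h4
    have hnu : Inp.nu (dat h κ) x ∈ S.Zh :=
      mul_mem (mul_mem hx (hcj x hx)) (hcj _ (hcj x hx))
    have h5 := H.nu_fix hxY
    obtain ⟨v, hv⟩ := S.yy _ hnu
    have h6 : v = 0 := hv.t_comm h5.symm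
    subst h6
    obtain ⟨c, hc⟩ := S.ker _ hnu hv
    exact ⟨hxY, κ.symm c, by rw [z_dat, κ.apply_symm_apply]; exact hc⟩
  apply le_antisymm _ hle
  intro y hy
  have hy' : y ∈ H.Y0 := hy
  obtain ⟨c, hc⟩ := H.mv hy'
  obtain ⟨x, hx, hxu⟩ := S.onto (κ c)
  have hx2 : t * x = x * (t * z (dat h κ) c) := by
    rw [z_dat]
    have h1 : x * t = t * x * h.env.z (κ c) := hxu.t
    calc t * x = t * x * (h.env.z (κ c) * h.env.z (κ c)) := by rw [h.env.z_self, mul_one]
      _ = x * t * h.env.z (κ c) := by rw [← mul_assoc, ← h1]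
      _ = _ := by rw [mul_assoc]
  obtain ⟨d, hd⟩ := H.eq_mul_z (hle hx) hy' hx2 hc
  rw [hd, z_dat]
  exact mul_mem hx (S.z_mem _)

end

/-! ### the output -/

section

variable {h : L3X.XSit A t fr}

/-- the grown root group for `a = 01`. -/
def Ag (S : L3Zh.Seed h.env) : Subgroup X := cs (fr.w 1 2 1) S.Zh

/-- the grown root group for `b = 12`. -/
def Bg (S : L3Zh.Seed h.env) : Subgroup X := cs (fr.w 0 1 1) S.Zh

theorem mem_Ag (S : L3Zh.Seed h.env) {g : X} :
    g ∈ Ag S ↔ fr.w 1 2 1 * g * (fr.w 1 2 1)⁻¹ ∈ S.Zh := Iff.rfl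

theorem mem_Bg (S : L3Zh.Seed h.env) {g : X} :
    g ∈ Bg S ↔ fr.w 0 1 1 * g * (fr.w 0 1 1)⁻¹ ∈ S.Zh := Iff.rfl

theorem conj_conj {n g : X} (hn : n * n = 1) : n * (n * g * n⁻¹) * n⁻¹ = g := by
  calc n * (n * g * n⁻¹) * n⁻¹ = (n * n) * g * (n * n)⁻¹ := by group
    _ = g := by rw [hn]; group

theorem mem_Ag' (S : L3Zh.Seed h.env) {g : X} :
    g ∈ S.Zh ↔ fr.w 1 2 1 * g * (fr.w 1 2 1)⁻¹ ∈ Ag S := by
  rw [mem_Ag, conj_conj (fr.w_mul_self (by decide) 1)]

theorem mem_Bg' (S : L3Zh.Seed h.env) {g : X} :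
    g ∈ S.Zh ↔ fr.w 0 1 1 * g * (fr.w 0 1 1)⁻¹ ∈ Bg S := by
  rw [mem_Bg, conj_conj (fr.w_mul_self (by decide) 1)]

theorem exists_kap (hF : Nat.card F = 4) : Nonempty (F4 ≃+* F) := by
  have : Fintype F := Fintype.ofFinite F
  exact ⟨FiniteField.ringEquivOfCardEq (F4.card_eq.trans (by
    rw [← Nat.card_eq_fintype_card, hF]))⟩

/-- **The grown groups (`q = 4`).** -/
theorem core_X (hF : Nat.card F = 4) (S : L3Zh.Seed h.env) :
    Core (baseX h) (Ag S) (Bg S) S.Zh := by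
  obtain ⟨κ⟩ := exists_kap (F := F) hF
  have h1 := (core (setup h κ S)).comap κ.symm
  have h2 : (base (setup h κ S)).comap κ.symm = baseX h := by
    have e : ∀ {i j : Fin 3} (hij : i ≠ j),
        (fun x => r (dat h κ) i j (κ.symm x)) = fr.x i j := by
      intro i j hij
      funext x
      rw [r_dat h κ hij, κ.apply_symm_apply]
    have e1 := e (i := 0) (j := 1) (by decide)
    have e2 := e (i := 1) (j := 2) (by decide)
    have e3 := e (i := 0) (j := 2) (by decide)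
    unfold Base.comap base baseX
    simp only [e1, e2, e3]
  have h3 : (setup h κ S).Y1 = Ag S := by
    unfold Setup.Y1 Ag
    rw [Y3_eq, wey_dat h κ (by decide)]
  have h4 : (setup h κ S).Y2 = Bg S := by
    unfold Setup.Y2 Bg
    rw [Y3_eq, wey_dat h κ (by decide)]
  rw [h2, h3, h4, Y3_eq] at h1
  exact h1

theorem braid {i j : Fin 3} (h : L3X.XSit A t fr) (hij : i ≠ j) : (fr.w i j 1 * fr.x i j 1) ^ 3 = 1 := by
  have h1 := fr.w_conj_one h.hZ hij hij 1
  rw [Equiv.swap_apply_left, Equiv.swap_apply_right, fr.w_inv hij] at h1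
  -- `n x n = y`
  have h2 := fr.two hij 1
  have h3 := fr.two hij.symm 1
  have h4 : fr.w i j 1 = fr.x i j 1 * fr.x j i 1 * fr.x i j 1 := by
    rw [FrameL3.w, inv_one]
  calc (fr.w i j 1 * fr.x i j 1) ^ 3
      = (fr.w i j 1 * fr.x i j 1 * fr.w i j 1) * fr.x i j 1 * fr.w i j 1 * fr.x i j 1 := by
        rw [pow_succ, pow_two]; simp only [mul_assoc]
    _ = fr.x j i 1 * fr.x i j 1 * (fr.x i j 1 * fr.x j i 1 * fr.x i j 1) * fr.x i j 1 := by
        rw [h1, h4]
    _ = fr.x j i 1 * (fr.x i j 1 * fr.x i j 1) * fr.x j i 1 * (fr.x i j 1 * fr.x i j 1) := by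
        simp only [mul_assoc]
    _ = 1 := by rw [h2, mul_one, mul_one, h3]

theorem weylA_X (S : L3Zh.Seed h.env) : L3Wey.WeylA (baseX h) (Ag S) S.Zh (fr.w 1 2 1) where
  sq := fr.w_mul_self (by decide) 1
  t := h.tA _ (fr.w_mem (by decide) 1)
  a x := fr.w_conj_one h.hZ (i := 1) (j := 2) (by decide) (k := 0) (l := 1) (by decide) x
  c x := fr.w_conj_one h.hZ (i := 1) (j := 2) (by decide) (k := 0) (l := 2) (by decide) x
  A _ hg := hg
  braid := braid h (by decide)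

theorem weylB_X (S : L3Zh.Seed h.env) : L3Wey.WeylA (baseX h).swap (Bg S) S.Zh (fr.w 0 1 1) where
  sq := fr.w_mul_self (by decide) 1
  t := h.tA _ (fr.w_mem (by decide) 1)
  a x := fr.w_conj_one h.hZ (i := 0) (j := 1) (by decide) (k := 1) (l := 2) (by decide) x
  c x := fr.w_conj_one h.hZ (i := 0) (j := 1) (by decide) (k := 0) (l := 2) (by decide) x
  A _ hg := hg
  braid := braid h (by decide)

/-! ### the torus -/

theorem torus_Zh (S : L3Zh.Seed h.env) {y : X} (hy : y ∈ L3X.torus fr) {g : X} (hg : g ∈ S.Zh) :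
    y * g * y⁻¹ ∈ S.Zh := by
  obtain ⟨c, hc⟩ := hy
  exact S.conj_mem h.exists_ne (h.nor_of_tor hc) hg

theorem torus_Ag (S : L3Zh.Seed h.env) {y : X} (hy : y ∈ L3X.torus fr) {g : X} (hg : g ∈ Ag S) :
    y * g * y⁻¹ ∈ Ag S := by
  rw [mem_Ag] at hg ⊢
  have h1 := torus_Zh S ((h.torus_conj (i := 1) (j := 2) (by decide)).1 hy) hg
  have e : fr.w 1 2 1 * (y * g * y⁻¹) * (fr.w 1 2 1)⁻¹ =
      fr.w 1 2 1 * y * (fr.w 1 2 1)⁻¹ * (fr.w 1 2 1 * g * (fr.w 1 2 1)⁻¹) *
        (fr.w 1 2 1 * y * (fr.w 1 2 1)⁻¹)⁻¹ := by group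
  rw [e]
  exact h1

theorem torus_Bg (S : L3Zh.Seed h.env) {y : X} (hy : y ∈ L3X.torus fr) {g : X} (hg : g ∈ Bg S) :
    y * g * y⁻¹ ∈ Bg S := by
  rw [mem_Bg] at hg ⊢
  have h1 := torus_Zh S ((h.torus_conj (i := 0) (j := 1) (by decide)).1 hy) hg
  have e : fr.w 0 1 1 * (y * g * y⁻¹) * (fr.w 0 1 1)⁻¹ =
      fr.w 0 1 1 * y * (fr.w 0 1 1)⁻¹ * (fr.w 0 1 1 * g * (fr.w 0 1 1)⁻¹) *
        (fr.w 0 1 1 * y * (fr.w 0 1 1)⁻¹)⁻¹ := by group
  rw [e]
  exact h1

end

end Cfsg.Agent.StdRank2.L3Four
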