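import Cfsg.Agent.StdRank2.L3Inst
import Cfsg.Agent.StdRank2.L3Four.Inst

/-!
# Type `L₃(4)`: the start (helper805's argument for the graph-field involutions)

`concl1`: `t` is conjugate to `a` or to `t a` for some involution `a ∈ A`, if it is conjugate to some element `≠ t` of `T`.
-/

set_option autoImplicit false
set_option linter.unusedSectionVars false
set_option linter.dupNamespace false

namespace Cfsg.Agent.StdRank2.L3Four.Start

open Subgroup Cfsg.Agent.SignalizersComponents Cfsg.Agent.StdEven.Syl Cfsg.Agent.StdEven.Loc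
open Cfsg.Agent.StdEven.StepFour Cfsg.Agent.StdL2.Setup Cfsg.Agent.StdEven.Perf
open Cfsg.Agent.Schreier.Basic
open Cfsg.Agent.StdRank2.L3Data Cfsg.Agent.StdRank2.OutL3Inv Cfsg.Agent.StdRank2.OutL3Je
open Cfsg.Agent.StdRank2.OutL3Rel Cfsg.Agent.StdRank2.OutL3Outer Cfsg.Agent.StdRank2.OutField
open Cfsg.Agent.SporadicA.FieldFour
open scoped commutatorElement

section Field

variable {F : Type*} [Field F] [Finite F] [CharP F 2]

theorem aut_eq (hF : Nat.card F = 4) (σ : F ≃+* F) : σ = 1 ∨ ∀ x, σ x = x * x := by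
  obtain ⟨κ⟩ := exists_kap (F := F) hF
  rcases Cfsg.Agent.ONType.OuterL.ringEquiv_eq ((κ.trans σ).trans κ.symm) with h | h
  · left
    ext x
    obtain ⟨y, rfl⟩ := κ.surjective x
    have h1 := congrArg κ (h y)
    simpa using h1
  · right
    intro x
    obtain ⟨y, rfl⟩ := κ.surjective x
    have h1 := congrArg κ (h y)
    simpa using h1

theorem aut_unique (hF : Nat.card F = 4) {σ τ : F ≃+* F} (hσ : σ ≠ 1) (hτ : τ ≠ 1) : σ = τ := by
  ext x
  rw [(aut_eq hF σ).resolve_left hσ, (aut_eq hF τ).resolve_left hτ]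

theorem fix_eq (hF : Nat.card F = 4) {σ : F ≃+* F} (hσ : σ ≠ 1) {x : F} (hx : σ x = x) : x = 0 ∨ x = 1 := by
  rw [(aut_eq hF σ).resolve_left hσ] at hx
  have h1 : x * (x - 1) = 0 := by rw [mul_sub, hx, mul_one, sub_self]
  rcases mul_eq_zero.1 h1 with h2 | h2
  · exact Or.inl h2
  · exact Or.inr (sub_eq_zero.1 h2)

end Field

variable {G : Type*} [Group G] {L A : Subgroup G} {t : G} {T : Subgroup G}
  {F : Type*} [Field F] [CharP F 2] {fr : FrameL3 A F}

/-- `f` induces an inner automorphism of `A`. -/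
def Inn (A : Subgroup G) (f : G) : Prop := ∃ a ∈ A, a⁻¹ * f ∈ centralizer (A : Set G)

/-- `t` is conjugate to an involution of `A` or of `t A`. -/
def Concl1 (A : Subgroup G) (t : G) : Prop :=
  ∃ a ∈ A, a * a = 1 ∧ a ≠ 1 ∧ ((∃ g : G, g * t * g⁻¹ = a) ∨ ∃ g : G, g * t * g⁻¹ = t * a)

theorem conj_ne_one {g x : G} (hx : x ≠ 1) : g * x * g⁻¹ ≠ 1 := by
  intro h
  apply hx
  have : x = g⁻¹ * (g * x * g⁻¹) * g := by group
  rw [this, h]; group

theorem conj_sq {g x : G} (hx : x * x = 1) : g * x * g⁻¹ * (g * x * g⁻¹) = 1 := by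
  calc g * x * g⁻¹ * (g * x * g⁻¹) = g * (x * x) * g⁻¹ := by group
    _ = 1 := by rw [hx]; group

variable [Finite G] [Finite F]

/-- Either the conclusion or graph-field type. -/
theorem graph_or (h : Sit L A t T fr) (hS : Sch ↥A) (hno : ¬ Concl1 A t) {s g : G} (hs : s ∈ T) (hst : s ≠ t)
    (hg : g * t * g⁻¹ = s) :
    ∃ w ∈ fr.U, ∃ σ : F ≃+* F, σ ≠ 1 ∧ σ * σ = 1 ∧ Grf fr (w * s * w⁻¹) σ := by
  have hss : s * s = 1 := by rw [← hg]; exact conj_sq h.tt
  have hs1 : s ≠ 1 := by rw [← hg]; exact conj_ne_one h.t_ne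
  by_cases hin : ∃ a ∈ A, a⁻¹ * s ∈ centralizer (A : Set G)
  · exfalso
    obtain ⟨a, ha, haf⟩ := hin
    obtain ⟨v, hvT, hvA, r, hrT, hrK, hfe⟩ := h.isT.exists_of_inner hs ha haf
    have hrv : r * v = v * r := comm_of_centralizer hrK hvA
    have h1 : (v * v) * (r * r) = 1 := by
      rw [← hss, hfe]
      calc v * v * (r * r) = v * (v * r) * r := by group
        _ = v * (r * v) * r := by rw [hrv]
        _ = v * r * (v * r) := by group
    have h2 : v * v = 1 := by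
      apply h.isT.eq_one_of_mem h.hZ (mul_mem hvT hvT) (mul_mem hvA hvA)
      rw [eq_inv_of_mul_eq_one_left h1]
      exact inv_mem (mul_mem hrK hrK)
    rw [h2, one_mul] at h1
    rcases h.isT.uniq r hrT hrK h1 with h3 | h3
    · rw [h3, mul_one] at hfe
      exact hno ⟨v, hvA, h2, by rw [← hfe]; exact hs1, Or.inl ⟨g, by rw [hg, hfe]⟩⟩
    · rw [h3] at hfe hrv
      refine hno ⟨v, hvA, h2, ?_, Or.inr ⟨g, by rw [hg, hfe, hrv]⟩⟩
      rintro rfl
      rw [one_mul] at hfe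
      exact hst hfe
  · rcases good_or h.hZ h.had h.isT.syl.le h.perfect h.four hs hss hin with h1 | ⟨-, w, hw, σ, h1, h2, h3⟩
    · exfalso
      obtain ⟨B, hB, hBf, hB2, w, hw, hww, hw1, c, hc⟩ := h1
      obtain ⟨a, ha, haa, ha1, y, hy⟩ :=
        exists_conj_mul h.conf.std h.conf.ht h.conf.htA h.conf.cyc hS hg hB hBf hB2 hw hww hw1 hc
      exact hno ⟨a, ha, haa, ha1, Or.inr ⟨y, hy⟩⟩
    · exact ⟨w, hw, σ, h1, h2, h3⟩

/-- a power of `r` has square `t`. -/
theorem exists_pow (h : Sit L A t T fr) {r : G} (hr : r ∈ T) (hrK : r ∈ centralizer (A : Set G)) (h1 : r ≠ 1)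
    (h2 : r ≠ t) : ∃ n : ℕ, r ^ n * r ^ n = t := by
  obtain ⟨k, hk⟩ := h.isT.syl.two ⟨r, hr⟩
  have hk : r ^ 2 ^ k = 1 := congrArg Subtype.val hk
  obtain ⟨k, hk, hko⟩ := (Nat.dvd_prime_pow Nat.prime_two).mp (orderOf_dvd_of_pow_eq_one hk)
  match k, hko with
  | 0, hko =>
    exfalso
    rw [pow_zero, orderOf_eq_one_iff] at hko
    exact h1 hko
  | 1, hko =>
    exfalso
    rcases h.isT.uniq r hr hrK (by rw [← pow_two, ← pow_one 2, ← hko, pow_orderOf_eq_one]) with h | h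
    · exact h1 h
    · exact h2 h
  | k + 2, hko =>
    refine ⟨2 ^ k, ?_⟩
    have h3 : r ^ 2 ^ k * r ^ 2 ^ k = r ^ 2 ^ (k + 1) := by rw [← pow_add]; congr 1; ring
    rw [h3]
    rcases h.isT.uniq (r ^ 2 ^ (k + 1)) (pow_mem hr _) (pow_mem hrK _) (by
      rw [← pow_add]
      have : 2 ^ (k + 1) + 2 ^ (k + 1) = 2 ^ (k + 2) := by ring
      rw [this, ← hko, pow_orderOf_eq_one]) with h | h
    · exfalso
      have h4 := orderOf_dvd_of_pow_eq_one h
      rw [hko] at h4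
      have h5 := Nat.le_of_dvd (by positivity) h4
      have h6 : 2 ^ (k + 1) < 2 ^ (k + 2) := Nat.pow_lt_pow_right (by norm_num) (by omega)
      omega
    · exact h

/-- 2-elements of `C(t)` are conjugate into `T`. -/
theorem exists_into (h : Sit L A t T fr) {x : G} (hx : x * t = t * x) (h2 : ∃ k : ℕ, x ^ 2 ^ k = 1) :
    ∃ c : G, c * t = t * c ∧ c * x * c⁻¹ ∈ T := by
  have hTc := h.isT.syl_cent h.conf.std h.conf.ht h.conf.htA
  have hP : IsPGroup 2 (zpowers x) := by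
    rintro ⟨y, hy⟩
    obtain ⟨k, hk⟩ := h2
    obtain ⟨m, hm⟩ := mem_zpowers_iff.1 hy
    refine ⟨k, Subtype.ext ?_⟩
    show y ^ 2 ^ k = 1
    rw [← hm, ← zpow_natCast, ← zpow_mul, mul_comm, zpow_mul, zpow_natCast, hk, one_zpow]
  obtain ⟨c, hc, hcx⟩ := hTc.exists_conj hP (by
    rw [zpowers_le, mem_centralizer_singleton_iff]
    exact hx)
  rw [mem_centralizer_singleton_iff] at hc
  exact ⟨c, hc, hcx x (mem_zpowers x)⟩

/-- `C_R(f) = ⟨t⟩`. -/
theorem cent_R (h : Sit L A t T fr) (hS : Sch ↥A) (hno : ¬ Concl1 A t) {f g : G} (hft : f ≠ t)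
    (hg : g * t * g⁻¹ = f) {r : G} (hr : r ∈ T) (hrK : r ∈ centralizer (A : Set G)) (hrf : r * f = f * r) :
    r = 1 ∨ r = t := by
  by_contra hcon
  push Not at hcon
  obtain ⟨n, hn⟩ := exists_pow h hr hrK hcon.1 hcon.2
  set x := r ^ n with hx
  have hxf : x * f = f * x := by
    have : Commute r f := hrf
    exact this.pow_left n
  have hxt : x * t = t * x := h.isT.cent x (pow_mem hr n)
  set ρ := g⁻¹ * x * g with hρ
  set s := g⁻¹ * t * g with hs
  have hρρ : ρ * ρ = s := by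
    calc ρ * ρ = g⁻¹ * (x * x) * g := by rw [hρ]; group
      _ = s := by rw [hn]
  have hρt : ρ * t = t * ρ := by
    have e : t = g⁻¹ * f * g := by rw [← hg]; group
    calc ρ * t = g⁻¹ * (x * f) * g := by rw [e, hρ]; group
      _ = g⁻¹ * (f * x) * g := by rw [hxf]
      _ = t * ρ := by rw [e, hρ]; group
  have hss : s * s = 1 := by
    calc s * s = g⁻¹ * (t * t) * g := by rw [hs]; group
      _ = 1 := by rw [h.tt]; group
  obtain ⟨c, hct, hcT⟩ := exists_into h hρt ⟨2, by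
    rw [show (2 : ℕ) ^ 2 = 2 + 2 from rfl, pow_add, pow_two, hρρ, hss]⟩
  have hs1T : c * s * c⁻¹ ∈ T := by
    have : c * s * c⁻¹ = (c * ρ * c⁻¹) * (c * ρ * c⁻¹) := by rw [← hρρ]; group
    rw [this]
    exact mul_mem hcT hcT
  have hst : c * s * c⁻¹ ≠ t := by
    intro e
    apply hft
    have e1 : s = t := by
      have e2 : s = c⁻¹ * (c * s * c⁻¹) * c := by group
      rw [e2, e, mul_assoc, ← hct]; group
    rw [← hg]
    have e3 : t * g = g * t := by
      calc t * g = g * (g⁻¹ * t * g) := by group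
        _ = g * t := by rw [← hs, e1]
    rw [← e3]; group
  obtain ⟨w, hw, σ, hσ1, hσ2, hgr⟩ := graph_or h hS hno (g := c * g⁻¹) hs1T hst (by rw [hs]; group)
  -- a square has field type
  have hGT : GT fr (c * s * c⁻¹) σ := by
    have hwT : FT fr w 1 := FT.of_mem_U hw
    have h1 : GT fr (w * (c * s * c⁻¹) * w⁻¹) σ := ⟨1, one_mem _, by rw [one_mul]; exact hgr⟩
    have h2 := ((hwT.inv h.hZ).mul_gt h.hZ h1).mul_ft h.hZ hwT
    have e1 : w⁻¹ * (w * (c * s * c⁻¹) * w⁻¹) * w = c * s * c⁻¹ := by group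
    rw [e1] at h2
    simpa using h2
  have hFT : ∃ τ, FT fr (c * s * c⁻¹) τ := by
    have e1 : c * s * c⁻¹ = (c * ρ * c⁻¹) * (c * ρ * c⁻¹) := by rw [← hρρ]; group
    rw [e1]
    rcases h.had.cases hcT with ⟨τ, h1⟩ | ⟨τ, h1⟩
    · exact ⟨_, h1.mul h.hZ h1⟩
    · exact ⟨_, h1.mul h.hZ h1⟩
  obtain ⟨τ, hτ⟩ := hFT
  exact hτ.not_gt h.hZ hGT

/-- **An element normalising `⟨t, f⟩` and mapping `t` to `f`.** -/
theorem exists_y (h : Sit L A t T fr) (hF : Nat.card F = 4) (hS : Sch ↥A) (hno : ¬ Concl1 A t) {f g : G}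
    (hfT : f ∈ T) (hft : f ≠ t) (hg : g * t * g⁻¹ = f) {σ : F ≃+* F} (hσ : σ ≠ 1) (hf : Grf fr f σ) :
    ∃ y : G, y * t * y⁻¹ = f ∧ (y * f * y⁻¹ = t ∨ y * f * y⁻¹ = t * f) := by
  have hff : f * f = 1 := by rw [← hg]; exact conj_sq h.tt
  have hfi : f⁻¹ = f := inv_eq_of_mul_eq_one_left hff
  have hti : t⁻¹ = t := inv_eq_of_mul_eq_one_left h.tt
  have htf : f * t = t * f := h.isT.cent f hfT
  set s := g⁻¹ * t * g with hs
  have hss : s * s = 1 := by
    calc s * s = g⁻¹ * (t * t) * g := by rw [hs]; group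
      _ = 1 := by rw [h.tt]; group
  have hst' : s * t = t * s := by
    have e : g⁻¹ * f * g = t := by rw [← hg]; group
    calc s * t = s * (g⁻¹ * f * g) := by rw [e]
      _ = g⁻¹ * (t * f) * g := by rw [hs]; group
      _ = g⁻¹ * (f * t) * g := by rw [htf]
      _ = (g⁻¹ * f * g) * s := by rw [hs]; group
      _ = t * s := by rw [e]
  obtain ⟨c, hct, hcT⟩ := exists_into h hst' ⟨1, by rw [pow_one, pow_two, hss]⟩
  have hst : c * s * c⁻¹ ≠ t := by
    intro e
    apply hft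
    have e1 : s = t := by
      have e2 : s = c⁻¹ * (c * s * c⁻¹) * c := by group
      rw [e2, e, mul_assoc, ← hct]; group
    rw [← hg]
    have e3 : t * g = g * t := by
      calc t * g = g * (g⁻¹ * t * g) := by group
        _ = g * t := by rw [← hs, e1]
    rw [← e3]; group
  obtain ⟨w, hw, τ, hτ1, -, hgr⟩ := graph_or h hS hno (g := c * g⁻¹) hcT hst (by rw [hs]; group)
  obtain rfl := aut_unique hF hτ1 hσ
  have hwt : w * t = t * w := (h.t_comm (fr.U_le hw)).symm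
  set k := w * c * g⁻¹ with hk
  set s2 := w * (c * s * c⁻¹) * w⁻¹ with hs2
  have hkt : k * t * k⁻¹ = s2 := by rw [hk, hs2, hs]; group
  have hkf : k * f * k⁻¹ = t := by
    calc k * f * k⁻¹ = w * (c * t) * c⁻¹ * w⁻¹ := by rw [hk, ← hg]; group
      _ = (w * t) * w⁻¹ := by rw [hct]; group
      _ = t := by rw [hwt]; group
  have hs2T : s2 ∈ T := mul_mem (mul_mem (h.U_le hw) hcT) (inv_mem (h.U_le hw))
  have hs22 : s2 * s2 = 1 := by rw [← hkt]; exact conj_sq h.tt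
  set r := f⁻¹ * s2 with hr
  have hrT : r ∈ T := mul_mem (inv_mem hfT) hs2T
  have hrK : r ∈ centralizer (A : Set G) := by
    have h1 := hf.inv.mul hgr
    rw [inv_mul_cancel] at h1
    exact mem_centralizer_of_fld_one (fr := fr) h.perfect (h.isT.syl.le hrT) h1
  have hs2e : s2 = f * r := by rw [hr]; group
  by_cases hrt : r = 1 ∨ r = t
  · refine ⟨k⁻¹, ?_, ?_⟩
    · rw [inv_inv, ← hkf]; group
    · rcases hrt with h1 | h1
      · left
        rw [h1, mul_one] at hs2e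
        rw [inv_inv, ← hs2e, ← hkt]; group
      · right
        rw [h1] at hs2e
        have e1 : k⁻¹ * (f * t) * k = t := by rw [← hs2e, ← hkt]; group
        have e2 : k⁻¹ * t * k = f := by rw [← hkf]; group
        have e3 : k⁻¹ * (f * t) * k = (k⁻¹ * f * k) * (k⁻¹ * t * k) := by group
        rw [e3, e2] at e1
        rw [inv_inv]
        calc k⁻¹ * f * k = (k⁻¹ * f * k * f) * f⁻¹ := by group
          _ = t * f := by rw [e1, hfi]
  · push Not at hrt
    obtain ⟨n, hn⟩ := exists_pow h hrT hrK hrt.1 hrt.2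
    set x := r ^ n with hx
    have hfr : f * r * f⁻¹ = r⁻¹ := by
      rw [hs2e] at hs22
      rw [hfi]
      exact eq_inv_of_mul_eq_one_left (by rw [← hs22]; group)
    have hfx : f * x * f⁻¹ = x⁻¹ := by
      rw [hx, ← conj_pow, hfr, inv_pow]
    have hxr : x * r = r * x := by
      rw [hx, ← pow_succ, ← pow_succ']
    have hxt : x * t = t * x := h.isT.cent x (pow_mem hrT n)
    -- `x⁻¹ f x = f t`
    have hxf : x⁻¹ * f * x = f * t := by
      have e1 : x⁻¹ * f = f * x := by rw [← hfx]; group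
      rw [e1, mul_assoc, hn]
    have hxs : x⁻¹ * s2 * x = s2 * t := by
      have e0 : x⁻¹ * r * x = r := by rw [mul_assoc, ← hxr]; group
      have e1 : t * r = r * t := (h.isT.cent r hrT).symm
      calc x⁻¹ * s2 * x = (x⁻¹ * f * x) * (x⁻¹ * r * x) := by rw [hs2e]; group
        _ = f * (t * r) := by rw [hxf, e0]; group
        _ = s2 * t := by rw [e1, hs2e]; group
    set ρ := k⁻¹ * x * k with hρ
    have hρt : ρ⁻¹ * t * ρ = t * f := by
      have e1 : k⁻¹ * s2 * k = t := by rw [← hkt]; group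
      have e2 : k⁻¹ * t * k = f := by rw [← hkf]; group
      calc ρ⁻¹ * t * ρ = k⁻¹ * (x⁻¹ * (k * t * k⁻¹) * x) * k := by rw [hρ]; group
        _ = (k⁻¹ * s2 * k) * (k⁻¹ * t * k) := by rw [hkt, hxs]; group
        _ = t * f := by rw [e1, e2]
    have hρf : ρ⁻¹ * f * ρ = f := by
      calc ρ⁻¹ * f * ρ = k⁻¹ * (x⁻¹ * (k * f * k⁻¹) * x) * k := by rw [hρ]; group
        _ = k⁻¹ * (x⁻¹ * (t * x)) * k := by rw [hkf]; group
        _ = k⁻¹ * (x⁻¹ * (x * t)) * k := by rw [hxt]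
        _ = k⁻¹ * (k * f * k⁻¹) * k := by rw [hkf]; group
        _ = f := by group
    refine ⟨x⁻¹ * ρ⁻¹, ?_, Or.inr ?_⟩
    · calc x⁻¹ * ρ⁻¹ * t * (x⁻¹ * ρ⁻¹)⁻¹ = x⁻¹ * (ρ⁻¹ * t * ρ) * x := by group
        _ = x⁻¹ * (t * x) * (x⁻¹ * f * x) := by rw [hρt]; group
        _ = x⁻¹ * (x * t) * (f * t) := by rw [hxf, hxt]
        _ = t * (t * f) := by rw [htf]; group
        _ = f := by rw [← mul_assoc, h.tt, one_mul]
    · calc x⁻¹ * ρ⁻¹ * f * (x⁻¹ * ρ⁻¹)⁻¹ = x⁻¹ * (ρ⁻¹ * f * ρ) * x := by group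
        _ = t * f := by rw [hρf, hxf, htf]

/-! ### The centraliser of `⟨t, f⟩` -/

/-- elements of `C_U(f)` of order two, graph-field type over `F₄`. -/
theorem unique_inv (hZ : Odd (Nat.card (center ↥A))) (hF : Nat.card F = 4) {f : G} {σ : F ≃+* F} (hσ : σ ≠ 1)
    (hf : Grf fr f σ) {v : G} (hv : v ∈ fr.U) (hvf : f * v = v * f) (hvv : v * v = 1) (hv1 : v ≠ 1) :
    v = fr.x 0 2 1 := by
  obtain ⟨r, s, m, rfl⟩ := (mem_U fr hZ).1 hv
  obtain ⟨h1, h2, h3⟩ := (comm_iff_grf hZ hf r s m).1 hvf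
  rw [u_sq fr hZ, ← u_zero fr hZ] at hvv
  have h4 := (u_inj fr hvv).2.2
  have h5 : r = 0 ∧ s = 0 := by
    rcases mul_eq_zero.1 h4 with h | h
    · exact ⟨h, by rw [← h2, h, map_zero]⟩
    · exact ⟨by rw [← h1, h, map_zero], h⟩
  obtain ⟨rfl, rfl⟩ := h5
  rw [mul_zero, add_zero] at h3
  rcases fix_eq hF hσ h3 with rfl | rfl
  · exact absurd (u_zero fr hZ) hv1
  · exact u_t fr hZ 1

/-- `x 0 2 1` is a commutator of two elements of `C_U(f)`. -/
theorem exists_comm (hZ : Odd (Nat.card (center ↥A))) (hF : Nat.card F = 4) {f : G} {σ : F ≃+* F} (hσ : σ ≠ 1)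
    (h2 : σ * σ = 1) (hf : Grf fr f σ) : ∃ v ∈ fr.U, ∃ w ∈ fr.U, f * v = v * f ∧ f * w = w * f ∧
      ⁅v, w⁆ = fr.x 0 2 1 := by
  obtain ⟨o, ho⟩ := exists_trace h2 hσ (map_one σ)
  have hσo : σ o = o + 1 := by
    have h3 : o + o = 0 := CharTwo.add_self_eq_zero o
    linear_combination ho - h3
  have hσσ : σ (o + 1) = o := by rw [← hσo]; exact invol_apply h2 o
  have hsq : σ o = o * o := (aut_eq hF σ).resolve_left hσ o
  have hoo : o * o = o + 1 := by rw [← hsq, hσo]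
  have h3 : ∀ x : F, x + x = 0 := fun x => CharTwo.add_self_eq_zero x
  refine ⟨u fr 1 1 o, u_mem fr _ _ _, u fr o (o + 1) o, u_mem fr _ _ _, ?_, ?_, ?_⟩
  · rw [comm_iff_grf hZ hf]
    refine ⟨map_one σ, map_one σ, ?_⟩
    rw [mul_one, hσσ]
  · rw [comm_iff_grf hZ hf]
    refine ⟨hσσ, hσo, ?_⟩
    have e1 : o + o * (o + 1) = o + 1 := by linear_combination hoo + h3 o
    rw [e1, hσσ]
  · rw [commutatorElement_def, u_inv fr hZ, u_inv fr hZ, u_mul fr hZ, u_mul fr hZ, u_mul fr hZ, ← u_t fr hZ]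
    congr 1
    · linear_combination h3 1 + h3 o
    · linear_combination h3 1 + h3 (o + 1)
    · have : (1 : F) + 1 = 0 := h3 1
      linear_combination 4 * hoo + (5 * o + 2) * this + (2 + 2 * o - o ^ 2) * this

/-- `C_U(f)`. -/
def CU (fr : FrameL3 A F) (f : G) : Subgroup G := fr.U ⊓ centralizer ({f} : Set G)

theorem mem_CU {f v : G} : v ∈ CU fr f ↔ v ∈ fr.U ∧ v * f = f * v := by
  rw [CU, mem_inf, mem_centralizer_singleton_iff]

/-- `T` normalises `U`. -/
theorem norm_U (h : Sit L A t T fr) {q v : G} (hq : q ∈ T) (hv : v ∈ fr.U) : q * v * q⁻¹ ∈ fr.U := by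
  rcases h.had.cases hq with ⟨τ, h1⟩ | ⟨τ, h1⟩
  · exact h1.norm h.hZ hv
  · exact h1.norm h.hZ hv

theorem norm_CU (h : Sit L A t T fr) {f q v : G} (hq : q ∈ T) (hqf : q * f = f * q) (hv : v ∈ CU fr f) :
    q * v * q⁻¹ ∈ CU fr f := by
  rw [mem_CU] at hv ⊢
  refine ⟨norm_U h hq hv.1, ?_⟩
  have h1 : q⁻¹ * f = f * q⁻¹ := by rw [inv_mul_eq_iff_eq_mul, ← mul_assoc, hqf, mul_inv_cancel_right]
  calc q * v * q⁻¹ * f = q * (v * (q⁻¹ * f)) := by group
    _ = q * (v * f) * q⁻¹ := by rw [h1]; group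
    _ = (q * f) * v * q⁻¹ := by rw [hv.2]; group
    _ = f * (q * v * q⁻¹) := by rw [hqf]; group

/-- elements of `C_T(f)` of type `1` or of the type of `f`. -/
theorem exists_CU (h : Sit L A t T fr) (hS : Sch ↥A) (hno : ¬ Concl1 A t) {f g : G}
    (hfT : f ∈ T) (hft : f ≠ t) (hg : g * t * g⁻¹ = f) {σ : F ≃+* F} (h2 : σ * σ = 1)
    (hf : Grf fr f σ) {a : G} (ha : a ∈ T) (haf : a * f = f * a) (hty : FT fr a 1 ∨ GT fr a σ) :
    ∃ u ∈ CU fr f, ∀ b ∈ T, b * f = f * b → (u⁻¹ * a) * b = b * (u⁻¹ * a) := by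
  have key : ∀ a ∈ T, a * f = f * a → FT fr a 1 →
      ∃ u ∈ CU fr f, ∀ b ∈ T, b * f = f * b → (u⁻¹ * a) * b = b * (u⁻¹ * a) := by
    intro a ha haf h1
    obtain ⟨v, hv, hvK⟩ := h1.exists_of_one h.hZ h.perfect (h.isT.syl.le ha)
    set r := v⁻¹ * a with hr
    have hrT : r ∈ T := mul_mem (inv_mem (h.U_le hv)) ha
    have har : a = v * r := by rw [hr]; group
    have e1 : v⁻¹ * (f * v * f⁻¹) = r * (f * r * f⁻¹)⁻¹ := by
      have e2 : (f * v * f⁻¹) * (f * r * f⁻¹) = v * r := by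
        calc (f * v * f⁻¹) * (f * r * f⁻¹) = f * (v * r) * f⁻¹ := by group
          _ = v * r := by rw [← har, ← haf, mul_inv_cancel_right]
      rw [eq_mul_inv_iff_mul_eq, mul_assoc, e2, inv_mul_cancel_left]
    have hfK : f * r * f⁻¹ ∈ centralizer (A : Set G) :=
      conj_mem_of_mem_normalizer (h.isT.normK hfT) hvK
    have e3 : v⁻¹ * (f * v * f⁻¹) = 1 := by
      apply eq_one_of_centralizer h.hZ (fr := fr) (mul_mem (inv_mem hv) (norm_U h hfT hv))
      rw [e1]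
      exact mul_mem hvK (inv_mem hfK)
    have e4 : f * v * f⁻¹ = v := (inv_mul_eq_one.1 e3).symm
    have e5 : f * r * f⁻¹ = r := by
      rw [e3] at e1
      exact (mul_inv_eq_one.1 e1.symm).symm
    refine ⟨v, mem_CU.2 ⟨hv, (mul_inv_eq_iff_eq_mul.1 e4).symm⟩, fun b hb _ => ?_⟩
    rcases cent_R h hS hno hft hg hrT hvK (mul_inv_eq_iff_eq_mul.1 e5).symm with h3 | h3
    · show r * b = b * r
      rw [h3, one_mul, mul_one]
    · show r * b = b * r
      rw [h3]
      exact (h.isT.cent b hb).symm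
  rcases hty with h1 | h1
  · exact key a ha haf h1
  · have h3 : FT fr (a * f) 1 := by
      rw [← h2]
      exact h1.mul h.hZ ⟨1, one_mem _, by rw [one_mul]; exact hf⟩
    obtain ⟨u, hu, hub⟩ := key (a * f) (mul_mem ha hfT) (by rw [← mul_assoc f a f, ← haf]) h3
    refine ⟨u, hu, fun b hb hbf => ?_⟩
    have h4 := hub b hb hbf
    have e1 : f⁻¹ * b = b * f⁻¹ := by rw [inv_mul_eq_iff_eq_mul, ← mul_assoc, ← hbf, mul_inv_cancel_right]
    calc u⁻¹ * a * b = u⁻¹ * (a * f) * (f⁻¹ * b) := by group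
      _ = (u⁻¹ * (a * f) * b) * f⁻¹ := by rw [e1]; group
      _ = b * (u⁻¹ * a) := by rw [h4]; group

/-- commutators in `C_T(f)` lie in `C_U(f)`. -/
theorem comm_mem (h : Sit L A t T fr) (hF : Nat.card F = 4) (hS : Sch ↥A) (hno : ¬ Concl1 A t) {f g : G}
    (hfT : f ∈ T) (hft : f ≠ t) (hg : g * t * g⁻¹ = f) {σ : F ≃+* F} (hσ : σ ≠ 1) (h2 : σ * σ = 1)
    (hf : Grf fr f σ) {a b : G} (ha : a ∈ T) (haf : a * f = f * a) (hb : b ∈ T) (hbf : b * f = f * b) :
    ⁅a, b⁆ ∈ CU fr f := by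
  have key : ∀ a ∈ T, a * f = f * a → (FT fr a 1 ∨ GT fr a σ) → ∀ b ∈ T, b * f = f * b → ⁅a, b⁆ ∈ CU fr f := by
    intro a ha haf hty b hb hbf
    obtain ⟨u, hu, hub⟩ := exists_CU h hS hno hfT hft hg h2 hf ha haf hty
    have h1 := hub b hb hbf
    set z := u⁻¹ * a with hz
    have haz : a = u * z := by rw [hz]; group
    have e1 : ⁅a, b⁆ = u * (b * u⁻¹ * b⁻¹) := by
      rw [commutatorElement_def, haz]
      calc u * z * b * (u * z)⁻¹ * b⁻¹ = u * (z * b) * z⁻¹ * u⁻¹ * b⁻¹ := by group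
        _ = u * (b * z) * z⁻¹ * u⁻¹ * b⁻¹ := by rw [h1]
        _ = _ := by group
    rw [e1]
    exact mul_mem hu (norm_CU h hb hbf (inv_mem hu))
  by_cases h3 : FT fr a 1 ∨ GT fr a σ
  · exact key a ha haf h3 b hb hbf
  by_cases h4 : FT fr b 1 ∨ GT fr b σ
  · rw [← commutatorElement_inv]
    exact inv_mem (key b hb hbf h4 a ha haf)
  -- both of type `(σ, 1)` or `(1, γ)`
  have hcl : ∀ x ∈ T, ¬ (FT fr x 1 ∨ GT fr x σ) → FT fr x σ ∨ GT fr x 1 := by
    intro x hx hn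
    rw [not_or] at hn
    rcases h.had.cases hx with ⟨τ, h5⟩ | ⟨τ, h5⟩
    · left
      by_cases h6 : τ = 1
      · subst h6; exact absurd h5 hn.1
      · rw [← aut_unique hF h6 hσ]; exact h5
    · right
      by_cases h6 : τ = 1
      · subst h6; exact h5
      · rw [aut_unique hF h6 hσ] at h5; exact absurd h5 hn.2
  have hσi : σ⁻¹ = σ := inv_eq_of_mul_eq_one_left h2
  have hc : FT fr (a⁻¹ * b) 1 ∨ GT fr (a⁻¹ * b) σ := by
    rcases hcl a ha h3 with h5 | h5 <;> rcases hcl b hb h4 with h6 | h6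
    · left
      have := (h5.inv h.hZ).mul h.hZ h6
      rwa [inv_mul_cancel] at this
    · right
      have := (h5.inv h.hZ).mul_gt h.hZ h6
      rwa [hσi, mul_one] at this
    · right
      have := (h5.inv h.hZ).mul_ft h.hZ h6
      rwa [inv_one, one_mul] at this
    · left
      have := (h5.inv h.hZ).mul h.hZ h6
      rwa [inv_mul_cancel] at this
  have hcf : a⁻¹ * b * f = f * (a⁻¹ * b) := by
    have e1 : a⁻¹ * f = f * a⁻¹ := by rw [inv_mul_eq_iff_eq_mul, ← mul_assoc, haf, mul_inv_cancel_right]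
    rw [mul_assoc, hbf, ← mul_assoc, e1, mul_assoc]
  have h7 := key _ (mul_mem (inv_mem ha) hb) hcf hc a ha haf
  have e2 : ⁅a, b⁆ = a * ⁅a⁻¹ * b, a⁆⁻¹ * a⁻¹ := by
    rw [commutatorElement_def, commutatorElement_def]; group
  rw [e2]
  exact norm_CU h ha haf (inv_mem h7)

/-- **The main step.** -/
theorem concl1_of_syl (h : Sit L A t T fr) (hF : Nat.card F = 4) (hS : Sch ↥A) {f g : G}
    (hfT : f ∈ T) (hft : f ≠ t) (hg : g * t * g⁻¹ = f) {σ : F ≃+* F} (hσ : σ ≠ 1) (h2 : σ * σ = 1)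
    (hf : Grf fr f σ)
    (hQ : IsSyl (T ⊓ centralizer ({f} : Set G)) (centralizer ({t} : Set G) ⊓ centralizer ({f} : Set G))) :
    Concl1 A t := by
  by_contra hno
  have hff : f * f = 1 := by rw [← hg]; exact conj_sq h.tt
  obtain ⟨y, hyt, hyf⟩ := exists_y h hF hS hno hfT hft hg hσ hf
  set N : Subgroup G := centralizer ({t} : Set G) ⊓ centralizer ({f} : Set G) with hN
  set Q : Subgroup G := T ⊓ centralizer ({f} : Set G) with hQd
  have memN : ∀ x : G, x ∈ N ↔ x * t = t * x ∧ x * f = f * x := by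
    intro x
    rw [hN, mem_inf, mem_centralizer_singleton_iff, mem_centralizer_singleton_iff]
  have hyN : y ∈ normalizer (N : Set G) := by
    apply mem_normalizer_of_conj_le
    intro x hx
    rw [memN] at hx ⊢
    obtain ⟨hx1, hx2⟩ := hx
    -- `y x y⁻¹` commutes with `f = y t y⁻¹` and with `y f y⁻¹`
    have e1 : y * x * y⁻¹ * f = f * (y * x * y⁻¹) := by
      rw [← hyt]
      calc y * x * y⁻¹ * (y * t * y⁻¹) = y * (x * t) * y⁻¹ := by group
        _ = y * (t * x) * y⁻¹ := by rw [hx1]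
        _ = _ := by group
    have e2 : y * x * y⁻¹ * (y * f * y⁻¹) = (y * f * y⁻¹) * (y * x * y⁻¹) := by
      calc y * x * y⁻¹ * (y * f * y⁻¹) = y * (x * f) * y⁻¹ := by group
        _ = y * (f * x) * y⁻¹ := by rw [hx2]
        _ = _ := by group
    refine ⟨?_, e1⟩
    rcases hyf with h3 | h3
    · rw [h3] at e2; exact e2
    · rw [h3] at e2
      -- commutes with `t f` and `f`
      have e3 : y * x * y⁻¹ * t = (y * x * y⁻¹ * (t * f)) * f := by
        calc y * x * y⁻¹ * t = y * x * y⁻¹ * t * (f * f) := by rw [hff, mul_one]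
          _ = _ := by group
      rw [e3, e2, mul_assoc, e1]
      calc t * f * (f * (y * x * y⁻¹)) = t * (f * f) * (y * x * y⁻¹) := by group
        _ = _ := by rw [hff, mul_one]
  obtain ⟨n, hn, hnQ⟩ := hQ.frattini hyN
  rw [memN] at hn
  set d := n * y with hd
  have hdt : d * t * d⁻¹ = f := by
    calc d * t * d⁻¹ = n * (y * t * y⁻¹) * n⁻¹ := by rw [hd]; group
      _ = f := by rw [hyt, hn.2]; group
  -- `z`
  obtain ⟨v, hv, w, hw, hvf, hwf, hvw⟩ := exists_comm (fr := fr) h.hZ hF hσ h2 hf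
  set z := fr.x 0 2 1 with hz
  have hz1 : z ≠ 1 := h.x02_ne_one one_ne_zero
  have hzz : z * z = 1 := fr.two (by decide) 1
  have hzA : z ∈ A := fr.mem (by decide) 1
  have hvQ : v ∈ Q := by
    rw [hQd, mem_inf, mem_centralizer_singleton_iff]
    exact ⟨h.U_le hv, hvf.symm⟩
  have hwQ : w ∈ Q := by
    rw [hQd, mem_inf, mem_centralizer_singleton_iff]
    exact ⟨h.U_le hw, hwf.symm⟩
  -- `d z d⁻¹` is an involution of `C_U(f)`
  have hdz : d * z * d⁻¹ ∈ CU fr f := by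
    have e1 : d * z * d⁻¹ = ⁅d * v * d⁻¹, d * w * d⁻¹⁆ := by
      rw [← hvw, commutatorElement_def, commutatorElement_def]; group
    rw [e1]
    have h3 := conj_mem_of_mem_normalizer hnQ hvQ
    have h4 := conj_mem_of_mem_normalizer hnQ hwQ
    rw [hQd, mem_inf, mem_centralizer_singleton_iff] at h3 h4
    exact comm_mem h hF hS hno hfT hft hg hσ h2 hf h3.1 h3.2 h4.1 h4.2
  rw [mem_CU] at hdz
  have hdz' : d * z * d⁻¹ = z :=
    unique_inv h.hZ hF hσ hf hdz.1 hdz.2.symm (conj_sq hzz) (conj_ne_one hz1)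
  -- `f z` is conjugate to `f`
  obtain ⟨s, hs⟩ := exists_trace h2 hσ (map_one σ)
  have h02 : (0 : Fin 3) ≠ 2 := by decide
  have hfz : fr.x 0 2 s * f * (fr.x 0 2 s)⁻¹ = f * z := by
    have e1 : f * fr.x 0 2 s * f⁻¹ = fr.x 0 2 (σ s) := hf 0 2 h02 s
    have hf' : f⁻¹ = f := inv_eq_of_mul_eq_one_left hff
    rw [fr.x_inv h02]
    have e2 : fr.x 0 2 s * f = f * (f * fr.x 0 2 s * f⁻¹) := by
      have : f * (f * fr.x 0 2 s * f⁻¹) = (f * f) * fr.x 0 2 s * f⁻¹ := by group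
      rw [this, hff, one_mul, hf']
    rw [e2, e1, mul_assoc, fr.add h.hZ h02, add_comm, hs]
  apply hno
  refine ⟨z, hzA, hzz, hz1, Or.inr ⟨d⁻¹ * fr.x 0 2 s * g, ?_⟩⟩
  calc d⁻¹ * fr.x 0 2 s * g * t * (d⁻¹ * fr.x 0 2 s * g)⁻¹
      = d⁻¹ * (fr.x 0 2 s * (g * t * g⁻¹) * (fr.x 0 2 s)⁻¹) * d := by group
    _ = d⁻¹ * ((d * t * d⁻¹) * (d * z * d⁻¹)) * d := by rw [hg, hfz, hdt, hdz']
    _ = t * z := by group

/-- **`t` is conjugate to an involution of `A` or `t A` if it is conjugate to some element `≠ t` of `T`.** -/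
theorem concl1 (h : Sit L A t T fr) (hF : Nat.card F = 4) (hS : Sch ↥A) {f g : G}
    (hfT : f ∈ T) (hft : f ≠ t) (hg : g * t * g⁻¹ = f) : Concl1 A t := by
  by_contra hno
  have hff : f * f = 1 := by rw [← hg]; exact conj_sq h.tt
  have hTc := h.isT.syl_cent h.conf.std h.conf.ht h.conf.htA
  set N : Subgroup G := centralizer ({t} : Set G) ⊓ centralizer ({f} : Set G) with hN
  have memN : ∀ x : G, x ∈ N ↔ x * t = t * x ∧ x * f = f * x := by
    intro x
    rw [hN, mem_inf, mem_centralizer_singleton_iff, mem_centralizer_singleton_iff]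
  obtain ⟨Q, hQ, hle⟩ := exists_isSyl (X := T ⊓ centralizer ({f} : Set G)) (N := N)
    (h.isT.syl.two.to_le inf_le_left) (by
      intro x hx
      rw [mem_inf, mem_centralizer_singleton_iff] at hx
      exact (memN x).2 ⟨h.isT.cent x hx.1, hx.2⟩)
  have hfQ : f ∈ Q := hle (by rw [mem_inf, mem_centralizer_singleton_iff]; exact ⟨hfT, rfl⟩)
  obtain ⟨c, hc, hcQ⟩ := hTc.exists_conj hQ.two (hQ.le.trans inf_le_left)
  rw [mem_centralizer_singleton_iff] at hc
  have hcf : c * f * c⁻¹ ∈ T := hcQ f hfQ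
  have hcft : c * f * c⁻¹ ≠ t := by
    intro e
    apply hft
    have e1 : f = c⁻¹ * (c * f * c⁻¹) * c := by group
    rw [e1, e, mul_assoc, ← hc]; group
  obtain ⟨w, hw, σ, hσ1, hσ2, hgr⟩ := graph_or h hS hno (g := c * g) hcf hcft (by rw [← hg]; group)
  have hwT := h.U_le hw
  have hwt : w * t = t * w := h.isT.cent w hwT
  set d := w * c with hd
  have hdt : d * t = t * d := by rw [hd, mul_assoc, hc, ← mul_assoc, hwt, mul_assoc]
  have hdt' : d⁻¹ * t = t * d⁻¹ := by rw [inv_mul_eq_iff_eq_mul, ← mul_assoc, hdt, mul_inv_cancel_right]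
  have hdQ : ∀ q ∈ Q, d * q * d⁻¹ ∈ T := by
    intro q hq
    have : d * q * d⁻¹ = w * (c * q * c⁻¹) * w⁻¹ := by rw [hd]; group
    rw [this]
    exact mul_mem (mul_mem hwT (hcQ q hq)) (inv_mem hwT)
  have hdf : w * (c * f * c⁻¹) * w⁻¹ = d * f * d⁻¹ := by rw [hd]; group
  rw [hdf] at hgr
  refine hno (concl1_of_syl h hF hS (f := d * f * d⁻¹) (g := d * g) (hdQ f hfQ) ?_ (by rw [← hg]; group)
    hσ1 hσ2 hgr ?_)
  · intro e
    apply hft
    have e1 : f = d⁻¹ * (d * f * d⁻¹) * d := by group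
    rw [e1, e, hdt', mul_assoc, inv_mul_cancel, mul_one]
  · -- Sylow
    have hmem : ∀ x : G, x ∈ centralizer ({t} : Set G) ⊓ centralizer ({d * f * d⁻¹} : Set G) →
        d⁻¹ * x * d ∈ N := by
      intro x hx
      rw [mem_inf, mem_centralizer_singleton_iff, mem_centralizer_singleton_iff] at hx
      rw [memN]
      constructor
      · calc d⁻¹ * x * d * t = d⁻¹ * (x * t) * d := by rw [mul_assoc, hdt]; group
          _ = (d⁻¹ * t) * x * d := by rw [hx.1]; group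
          _ = t * (d⁻¹ * x * d) := by rw [hdt']; group
      · calc d⁻¹ * x * d * f = d⁻¹ * (x * (d * f * d⁻¹)) * d := by group
          _ = d⁻¹ * (d * f * d⁻¹ * x) * d := by rw [hx.2]
          _ = f * (d⁻¹ * x * d) := by group
    refine ⟨?_, h.isT.syl.two.to_le inf_le_left, fun X hX hXN hle' => ?_⟩
    · intro x hx
      rw [mem_inf, mem_centralizer_singleton_iff] at hx
      rw [mem_inf, mem_centralizer_singleton_iff, mem_centralizer_singleton_iff]
      exact ⟨h.isT.cent x hx.1, hx.2⟩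
    · apply (Subgroup.eq_of_le_of_card_ge hle' _).symm
      have h1 : Nat.card (X.map (MulAut.conj d⁻¹).toMonoidHom) = Nat.card X :=
        (Nat.card_congr (X.equivMapOfInjective (MulAut.conj d⁻¹).toMonoidHom (MulAut.conj d⁻¹).injective).toEquiv).symm
      have h2 : Nat.card (X.map (MulAut.conj d⁻¹).toMonoidHom) ≤ Nat.card Q := by
        apply hQ.card_le (isPGroup_map hX _)
        rintro _ ⟨x, hx, rfl⟩
        have := hmem x (hXN hx)
        show d⁻¹ * x * d⁻¹⁻¹ ∈ N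
        rwa [inv_inv]
      have h3 : Nat.card (Q.map (MulAut.conj d).toMonoidHom) = Nat.card Q :=
        (Nat.card_congr (Q.equivMapOfInjective (MulAut.conj d).toMonoidHom (MulAut.conj d).injective).toEquiv).symm
      have h4 : Q.map (MulAut.conj d).toMonoidHom ≤ T ⊓ centralizer ({d * f * d⁻¹} : Set G) := by
        rintro _ ⟨q, hq, rfl⟩
        rw [mem_inf, mem_centralizer_singleton_iff]
        refine ⟨hdQ q hq, ?_⟩
        have h5 := ((memN q).1 (hQ.le hq)).2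
        show d * q * d⁻¹ * (d * f * d⁻¹) = d * f * d⁻¹ * (d * q * d⁻¹)
        calc d * q * d⁻¹ * (d * f * d⁻¹) = d * (q * f) * d⁻¹ := by group
          _ = d * (f * q) * d⁻¹ := by rw [h5]
          _ = _ := by group
      have h5 := Nat.card_le_card_of_injective _ (Subgroup.inclusion_injective h4)
      omega

/-- `T` is not a Sylow 2-subgroup of `G`. -/
theorem not_syl (h : Sit L A t T fr) (hF : Nat.card F = 4) (hS : Sch ↥A) : ¬ IsSyl T ⊤ := by
  intro hsyl
  have D := h.data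
  have C := h.conf
  obtain ⟨g, hgT, hgt⟩ := exists_conj_ne C (u := fr.x 0 2 1) (fr.mem (by decide) 1)
    (h.x02_ne_one one_ne_zero) (fr.two (by decide) 1) h.isT.mem hsyl
  obtain ⟨v, hvA, hvv, hv1, hconj⟩ := concl1 h hF hS hgT hgt rfl
  obtain ⟨b, hb, hbW⟩ := fr.involution_conj h.hZ hvA hvv hv1
  have hbt : t * b = b * t := comm_of_centralizer C.htA hb
  have hWz := h.x02_mem_W 1
  rw [← hbW] at hWz
  -- an element `s ≠ t` of `W ∪ t W` conjugate to `t`
  obtain ⟨s, k, hs, hsW, hsne⟩ : ∃ s k : G, k * t * k⁻¹ = s ∧ (s ∈ W fr ∨ t * s ∈ W fr) ∧ s ≠ t := by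
    rcases hconj with ⟨g, hg⟩ | ⟨g, hg⟩
    · refine ⟨b * v * b⁻¹, b * g, ?_, Or.inl hWz, ?_⟩
      · rw [← hg]; group
      · intro h3
        rw [h3] at hWz
        exact h.t_not (h.W_le_A hWz)
    · refine ⟨t * (b * v * b⁻¹), b * g, ?_, Or.inr ?_, ?_⟩
      · calc b * g * t * (b * g)⁻¹ = b * (g * t * g⁻¹) * b⁻¹ := by group
          _ = (b * t) * v * b⁻¹ := by rw [hg]; group
          _ = t * (b * v * b⁻¹) := by rw [← hbt]; group
      · rw [← mul_assoc, h.tt, one_mul]; exact hWz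
      · intro h3
        apply hv1
        rw [mul_eq_left] at h3
        have : v = b⁻¹ * (b * v * b⁻¹) * b := by group
        rw [this, h3]; group
  -- `J ≤ C(s)`
  have hsJ : ∀ j ∈ J fr t, j * s = s * j := by
    intro j hj
    rcases hsW with h1 | h1
    · exact (D.W_cent _ h1 j hj).symm
    · have h2 := D.W_cent _ h1 j hj
      have h3 : s = t * (t * s) := by rw [← mul_assoc, h.tt, one_mul]
      have h4 := D.isT.cent j (D.J_le hj)
      calc j * s = (j * t) * (t * s) := by rw [mul_assoc, ← h3]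
        _ = t * (j * (t * s)) := by rw [h4]; group
        _ = t * (t * s * j) := by rw [h2]
        _ = s * j := by rw [← mul_assoc, ← h3]
  -- `T` is Sylow in `C(t)`, its conjugate is Sylow in `C(s)`
  have hTc := D.isT.syl_cent C.std C.ht C.htA
  have hJs : ∀ j ∈ J fr t, k⁻¹ * j * k ∈ centralizer ({t} : Set G) := by
    intro j hj
    rw [mem_centralizer_singleton_iff]
    have h1 := hsJ j hj
    rw [← hs] at h1
    calc k⁻¹ * j * k * t = k⁻¹ * (j * (k * t * k⁻¹)) * k := by group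
      _ = k⁻¹ * (k * t * k⁻¹ * j) * k := by rw [h1]
      _ = t * (k⁻¹ * j * k) := by group
  have hJp : IsPGroup 2 ((J fr t).map (MulAut.conj k⁻¹).toMonoidHom) :=
    isPGroup_map (D.isT.syl.two.to_le D.J_le) k⁻¹
  obtain ⟨c, hc, hcT⟩ := hTc.exists_conj hJp (by
    rintro _ ⟨j, hj, rfl⟩
    show k⁻¹ * j * k⁻¹⁻¹ ∈ _
    rw [inv_inv]
    exact hJs j hj)
  rw [mem_centralizer_singleton_iff] at hc
  have hn : c * k⁻¹ ∈ normalizer (J fr t : Set G) := by
    apply D.mem_normalizer_J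
    intro j hj
    have h1 := hcT _ (conj_mem_map k⁻¹ hj)
    have h2 : c * k⁻¹ * j * (c * k⁻¹)⁻¹ = c * (k⁻¹ * j * k⁻¹⁻¹) * c⁻¹ := by group
    rw [h2]; exact h1
  -- `N(J)` centralises `t`
  have h1 := D.comm_of_syl C (hsyl.mono D.T_le le_top) D.isT.cent (inv_mem hn)
  apply hsne
  rw [← hs]
  have h2 : (c * k⁻¹)⁻¹ * t * (c * k⁻¹) = k * (c⁻¹ * (t * c)) * k⁻¹ := by group
  have h3 : (c * k⁻¹)⁻¹ * t * (c * k⁻¹) = t := by rw [h1]; group
  rw [← hc, inv_mul_cancel_left] at h2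
  rw [← h2, h3]

/-- `|R| = 2`. -/
theorem R_eq (h : Sit L A t T fr) (hF : Nat.card F = 4) (hS : Sch ↥A) {r : G} (hr : r ∈ T)
    (hrK : r ∈ centralizer (A : Set G)) : r = 1 ∨ r = t := by
  by_contra hcon
  push Not at hcon
  have D := h.data
  have C := h.conf
  obtain ⟨n, hn⟩ := exists_pow h hr hrK hcon.1 hcon.2
  set s := r ^ n with hs'
  have hs : s ∈ T := pow_mem hr n
  have hsK : s ∈ centralizer (A : Set G) := pow_mem hrK n
  -- `N(T)` centralises `t`
  apply not_syl h hF hS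
  apply D.isT.syl.top_of_normalizer
  intro g hg
  apply mem_normalizer_of_comm C.std C.ht C.htA
  have hgJ := D.normalizer_T_le hg
  -- `g s g⁻¹` centralises `J`
  have hgs : g * s * g⁻¹ ∈ T := conj_mem_of_mem_normalizer hg hs
  have hsJ : s ∈ centralizer (J fr t : Set G) := by
    rw [mem_centralizer_iff]
    intro j hj
    rcases h.mem_J.mp hj with h1 | h1
    · exact (comm_of_centralizer hsK (fr.U_le h1)).symm
    · have h2 := comm_of_centralizer hsK (fr.U_le h1)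
      have h3 := h.isT.cent s hs
      have h4 : t * (j * s) = t * (s * j) := by
        calc t * (j * s) = s * (t * j) := by rw [h2]; group
          _ = (s * t) * j := by group
          _ = t * (s * j) := by rw [h3]; group
      exact mul_left_cancel h4
  have hgsJ : g * s * g⁻¹ ∈ centralizer (J fr t : Set G) :=
    conj_mem_of_mem_normalizer (normalizer_le_normalizer_centralizer _ hgJ) hsJ
  have hxU : ∀ v ∈ fr.U, g * s * g⁻¹ * v = v * (g * s * g⁻¹) := fun v hv =>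
    comm_of_centralizer hgsJ (h.U_mem_J hv)
  obtain ⟨v, hv, hvx⟩ := OutL3Facts.exists_of_trivial fr h.hZ h.perfect (h.isT.syl.le hgs)
    (fun r s z => ⟨z, by rw [hxU _ (OutL3Rel.u_mem fr _ _ _), mul_inv_cancel_right]⟩)
  have hvW : v ∈ W fr := by
    refine mem_inf.mpr ⟨hv, ?_⟩
    rw [mem_centralizer_iff]
    intro y hy
    have h1 := comm_of_centralizer hvx (fr.U_le hy)
    have h2 := hxU y hy
    calc y * v = (g * s * g⁻¹) * ((g * s * g⁻¹)⁻¹ * (y * (g * s * g⁻¹))) * (g * s * g⁻¹)⁻¹ * v := by group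
      _ = (g * s * g⁻¹) * y * (v⁻¹ * (g * s * g⁻¹))⁻¹ := by rw [← h2]; group
      _ = v * ((v⁻¹ * (g * s * g⁻¹)) * y) * (v⁻¹ * (g * s * g⁻¹))⁻¹ := by group
      _ = v * y := by rw [h1]; group
  obtain ⟨c, rfl⟩ := h.mem_W.mp hvW
  have hvv : fr.x 0 2 c * fr.x 0 2 c = 1 := fr.two (by decide) c
  set r' := (fr.x 0 2 c)⁻¹ * (g * s * g⁻¹) with hr'
  have hr'T : r' ∈ T := mul_mem (inv_mem (h.U_le hv)) hgs
  have hrv : r' * fr.x 0 2 c = fr.x 0 2 c * r' := comm_of_centralizer hvx (fr.U_le hv)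
  have hx : g * s * g⁻¹ = fr.x 0 2 c * r' := by rw [hr']; group
  have h1 : g * t * g⁻¹ = r' * r' := by
    calc g * t * g⁻¹ = (g * s * g⁻¹) * (g * s * g⁻¹) := by rw [← hn]; group
      _ = fr.x 0 2 c * (r' * fr.x 0 2 c) * r' := by rw [hx]; group
      _ = (fr.x 0 2 c * fr.x 0 2 c) * (r' * r') := by rw [hrv]; group
      _ = r' * r' := by rw [hvv, one_mul]
  have h2 : g * t * g⁻¹ * (g * t * g⁻¹) = 1 := conj_sq h.tt
  rcases D.isT.uniq (g * t * g⁻¹) (by rw [h1]; exact mul_mem hr'T hr'T)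
    (by rw [h1]; exact mul_mem hvx hvx) h2 with h3 | h3
  · exact absurd h3 (conj_ne_one h.t_ne)
  · rwa [mul_inv_eq_iff_eq_mul] at h3

theorem hyp (h : Sit L A t T fr) (hF : Nat.card F = 4) (hS : Sch ↥A) : Cfsg.Agent.StdEven.CoreQuot.Hyp A t T where
  std := h.conf.std
  ht := h.conf.ht
  htA := h.conf.htA
  hZ := h.hZ
  isT := h.isT
  R := fun _ hr hrK => R_eq h hF hS hr hrK

/-- **START for `q = 4`.** -/
theorem exists_start_four (C : Conf L A t) (hZ : Odd (Nat.card (center ↥A)))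
    (e : (↥A ⧸ center ↥A) ≃* Matrix.ProjectiveSpecialLinearGroup (Fin 3) F) (hF : Nat.card F = 4) :
    ∃ (T : Subgroup G) (fr : FrameL3 A F) (B : L3Inst.Both L A t T fr), Nonempty (L3Zh.Seed B.xsit.env) := by
  obtain ⟨T, fr, h⟩ := L3Data.exists_sit C hZ e (by omega)
  have hS := L3Inst.sch h.perfect fr.e
  have H := hyp h hF hS
  obtain ⟨frX, hx⟩ := L3Inst.exists_frX H fr
  let B : L3Inst.Both L A t T fr := ⟨h, H, frX, hx⟩
  refine ⟨T, fr, B, ?_⟩
  obtain ⟨g, hgT, hk, v, hv, hv1, hvT, hgt⟩ := h.data.exists_normalizer h.conf (not_syl h hF hS)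
  have hgJ := h.data.normalizer_T_le hgT
  have hgN : g ∈ Cfsg.Agent.StdEven.CoreQuot.NO A t := B.normalizer_J_le hgJ
  have h1 : Cfsg.Agent.StdEven.CoreQuot.pr A t ⟨g, hgN⟩ ∈ normalizer (B.xsit.env.J : Set _) := by
    rw [← B.imJ_eq]
    exact B.hyp.pr_mem_normalizer hgJ
  refine L3Zh.exists_seed_of_mem B.xsit.exists_ne h1 ?_
  intro h2
  have h3 : g * t = t * g := B.hyp.pr_comm_iff.mp h2
  rw [h3, mul_inv_cancel_right, left_eq_mul] at hgt
  exact hv1 hgt

end Cfsg.Agent.StdRank2.L3Four.Start
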